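import Cfsg.Agent.Lib.KnownB.Sz8.Cover

/-!
Checks of the certificate at `2` for the covering group of `Sz(8)`, and of its multiplication rules.
-/

set_option autoImplicit false
set_option maxRecDepth 100000
set_option Elab.async false

namespace CfsgLib.KnownB.Sz8

open CfsgLib.KnownA.Suzuki CfsgLib.KnownB.Mult

variable {F : Type*} [Field F] [Fintype F] (hF : Fintype.card F = 8) (R : Root F)

/-- the list of the elements of the Sylow subgroup, without the group -/
def elemsC : ℕ → List C8
  | 0 => [one]
  | d + 1 =>
    (List.range 2).flatMap fun a => (elemsC d).map (mulC (powU (cert2.σ.getD (8 - d - 1) one) a))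
where
  powU (x : C8) : ℕ → C8
    | 0 => one
    | a + 1 => mulC x (powU x a)

theorem powC_eq (x : C8) : ∀ a, Cert.powC (code hF R) x a = elemsC.powU x a
  | 0 => rfl
  | a + 1 => by
    show mulC x (Cert.powC (code hF R) x a) = mulC x (elemsC.powU x a)
    rw [powC_eq x a]

theorem elemsC_eq : ∀ d, cert2.elems (code hF R) 2 d = elemsC d
  | 0 => rfl
  | d + 1 => by
    rw [Cert.elems, elemsC, elemsC_eq d]
    refine congrArg (fun f => List.flatMap f (List.range 2)) (funext fun a => ?_)
    rw [powC_eq]
    rfl

noncomputable local instance : Fintype (GaloisField 2 3) := Fintype.ofFinite _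

theorem card_model : Fintype.card (GaloisField 2 3) = 8 := by
  rw [← Nat.card_eq_fintype_card, GaloisField.card 2 3 (by norm_num)]
  norm_num

/-- a fixed field of order `8` -/
noncomputable def rootModel : Root (GaloisField 2 3) := (exists_root card_model).some

/-- the code over the fixed field, used in the evaluations -/
noncomputable def codeModel : Code (Cover (GaloisField 2 3) rootModel) C8 := code card_model rootModel

theorem gen_check : Cert.genOK (codeModel) cert2 = true := by decide +kernel

theorem rel_check : Cert.relOK (codeModel) cert2 = true := by decide +kernel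

theorem pc_check : cert2.pcOK 2 = true := by decide +kernel

theorem indep_check : Cert.indepOK (codeModel) cert2 2 = true := by decide +kernel

theorem rows_check : Cert.rowsOK (codeModel) cert2 2 = true := by decide +kernel

theorem target_check : cert2.targetOK 2 = true := by decide +kernel

section Transfer

theorem valid_transfer.{u, v} {Q : Type u} {Q' : Type v} [Group Q] [Group Q'] {C : Type}
    (K : Code Q C) (K' : Code Q' C) (c : Cert C) (p : ℕ) (h1 : K.mul = K'.mul) (h2 : K.one = K'.one)
    (h3 : K.eqc = K'.eqc) (h4 : K.okc = K'.okc) (h : c.Valid K' p) : c.Valid K p := by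
  have eσ : ∀ j, c.σc K j = c.σc K' j := fun j => by simp only [Cert.σc, h2]
  have eg : ∀ k, c.gc K k = c.gc K' k := fun k => by simp only [Cert.gc, h2]
  have es : ∀ k, c.src K k = c.src K' k := fun k => by simp only [Cert.src, h2]
  have ei : ∀ k, c.img K k = c.img K' k := fun k => by simp only [Cert.img, h2]
  have ev : ∀ w, c.ev K w = c.ev K' w := fun w => by
    simp only [Cert.ev, h1, h2, eσ]
  have ep : ∀ x m, Cert.powC K x m = Cert.powC K' x m := fun x m => by
    induction m with
    | zero => exact h2
    | succ m ih => simp only [Cert.powC, h1, ih]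
  have ee : ∀ d, c.elems K p d = c.elems K' p d := fun d => by
    induction d with
    | zero => simp only [Cert.elems, h2]
    | succ d ih => simp only [Cert.elems, h1, ih, eσ, ep]
  have esp : ∀ s, c.specOK K s = c.specOK K' s := fun s => by
    cases s with
    | ovl => rfl
    | cnj k0 w1 w2 =>
      simp only [Cert.specOK, h3, eg, funext es, funext ei]
  have er : ∀ s, c.rowVec K p s = c.rowVec K' p s := fun s => by
    cases s with
    | ovl => rfl
    | cnj k0 w1 w2 => simp only [Cert.rowVec, funext es, funext ei]
  exact
    { gen := by have := h.gen; simpa only [Cert.genOK, h4] using this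
      rel := by have := h.rel; simpa only [Cert.relOK, h1, h3, ev, eg, es, ei] using this
      pc := h.pc
      indep := by have := h.indep; simpa only [Cert.indepOK, h3, ee, eσ] using this
      rows := by have := h.rows; simpa only [Cert.rowsOK, esp, er] using this
      target := h.target }

end Transfer

theorem valid : cert2.Valid (code hF R) 2 :=
  valid_transfer (code hF R) codeModel cert2 2 rfl rfl rfl rfl
    ⟨gen_check, rel_check, pc_check, indep_check, rows_check, target_check⟩

/-- entry check of `bru` -/
def bruOK (e : C8) : Option (List ℕ × List ℕ × ℕ) × List ℕ → Bool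
  | (none, w) => eqC (mulC (mulC wC e) wC) (evw w)
  | (some (a, b, k), _) => eqC (mulC (mulC wC e) wC) (mulC (mulC (mulC (evw a) wC) (evw b)) (powT k))

theorem bru_check : ((elemsC 8).zip bru).all (fun q => bruOK q.1 q.2) = true ∧
    bru.length = (elemsC 8).length := by
  refine ⟨by decide +kernel, by decide +kernel⟩

theorem torus_check : (eqC (powT 7) one && eqC (mulC wC tC) (mulC (powT 6) wC)) = true := by
  decide +kernel

theorem kernel_check : ((elemsC 8).all fun e => (List.range 7).all fun k =>
    !eq4 (mulC e (powT k)).a one4 || zC.any (eqC (mulC e (powT k)))) = true := by decide +kernel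

theorem central_check : (zC.all fun z => (List.range 10).all fun k =>
    eqC (mulC z (gq k).1) (mulC (gq k).1 z) && eq4 z.a one4) = true := by decide +kernel

theorem comm_check : (comms.all fun q =>
    eqC (mulC (evw q.1) (evw q.2.1)) (mulC (evw q.2.2) (mulC (evw q.2.1) (evw q.1)))) = true := by
  decide +kernel

theorem four_check : ((List.range 4).all fun i => (List.range 4).all fun j =>
    Nat.beq i j || !eqC (zC.getD i one) (zC.getD j one)) = true := by decide +kernel

theorem group_check : (eqC (zC.getD 0 one) one && eqC (mulC (zC.getD 1 one) (zC.getD 1 one)) one &&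
    eqC (mulC (zC.getD 2 one) (zC.getD 2 one)) one &&
    eqC (mulC (zC.getD 1 one) (zC.getD 2 one)) (zC.getD 3 one)) = true := by decide +kernel

theorem unip_check : ((List.range 8).all fun a => (List.range 8).all fun b =>
    eq4 (evw (uWords.getD (8 * a + b) [])).a (uK a b)) = true := by decide +kernel

theorem tor_check : ((List.range 7).all fun t =>
    eq4 (powT (tExp.getD t 0)).a (hK (t + 1))) = true := by decide +kernel

end CfsgLib.KnownB.Sz8
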