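import Mathlib

/-!
`8 × 8` matrices modulo `5` as eight packed rows.
-/

set_option autoImplicit false

namespace CfsgLib.KnownB.Sz8

open Matrix

/-- eight packed rows -/
structure M8 where
  q0 : ℕ
  q1 : ℕ
  q2 : ℕ
  q3 : ℕ
  q4 : ℕ
  q5 : ℕ
  q6 : ℕ
  q7 : ℕ

/-- digit -/
def dig (v j : ℕ) : ℕ := v / 256 ^ j % 256

/-- pack eight digits -/
def pack8 (a0 a1 a2 a3 a4 a5 a6 a7 : ℕ) : ℕ :=
  a0 + 256 * (a1 + 256 * (a2 + 256 * (a3 + 256 * (a4 + 256 * (a5 + 256 * (a6 + 256 * a7))))))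

/-- reduce the digits modulo `5` -/
def red8 (v : ℕ) : ℕ :=
  pack8 (v % 256 % 5) (v / 256 % 256 % 5) (v / 65536 % 256 % 5) (v / 16777216 % 256 % 5) (v / 4294967296 % 256 % 5) (v / 1099511627776 % 256 % 5) (v / 281474976710656 % 256 % 5) (v / 72057594037927936 % 256 % 5)

/-- canonical form -/
def norm8 (x : M8) : M8 := ⟨red8 x.q0, red8 x.q1, red8 x.q2, red8 x.q3, red8 x.q4, red8 x.q5, red8 x.q6, red8 x.q7⟩

/-- a reduced row times a reduced matrix -/
def rowMul8 (v : ℕ) (y : M8) : ℕ :=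
  red8 (v % 256 * y.q0 + v / 256 % 256 * y.q1 + v / 65536 % 256 * y.q2 + v / 16777216 % 256 * y.q3 + v / 4294967296 % 256 * y.q4 + v / 1099511627776 % 256 * y.q5 + v / 281474976710656 % 256 * y.q6 + v / 72057594037927936 % 256 * y.q7)

/-- product -/
def mul8 (x y : M8) : M8 :=
  let y' := norm8 y
  ⟨rowMul8 (red8 x.q0) y', rowMul8 (red8 x.q1) y', rowMul8 (red8 x.q2) y', rowMul8 (red8 x.q3) y', rowMul8 (red8 x.q4) y', rowMul8 (red8 x.q5) y', rowMul8 (red8 x.q6) y', rowMul8 (red8 x.q7) y'⟩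

/-- equality modulo `5` -/
def eq8 (x y : M8) : Bool :=
  Nat.beq (red8 x.q0) (red8 y.q0) && Nat.beq (red8 x.q1) (red8 y.q1) && Nat.beq (red8 x.q2) (red8 y.q2) && Nat.beq (red8 x.q3) (red8 y.q3) && Nat.beq (red8 x.q4) (red8 y.q4) && Nat.beq (red8 x.q5) (red8 y.q5) && Nat.beq (red8 x.q6) (red8 y.q6) && Nat.beq (red8 x.q7) (red8 y.q7)

/-- identity -/
def one8 : M8 := ⟨1, 256, 65536, 16777216, 4294967296, 1099511627776, 281474976710656, 72057594037927936⟩

/-- the row of a packed row -/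
def row8 (v : ℕ) : Fin 8 → ZMod 5 :=
  ![((v % 256 : ℕ) : ZMod 5), ((v / 256 % 256 : ℕ) : ZMod 5), ((v / 65536 % 256 : ℕ) : ZMod 5), ((v / 16777216 % 256 : ℕ) : ZMod 5), ((v / 4294967296 % 256 : ℕ) : ZMod 5), ((v / 1099511627776 % 256 : ℕ) : ZMod 5), ((v / 281474976710656 % 256 : ℕ) : ZMod 5), ((v / 72057594037927936 % 256 : ℕ) : ZMod 5)]

/-- the matrix of a code -/
def dec8 (x : M8) : Matrix (Fin 8) (Fin 8) (ZMod 5) :=
  ![row8 x.q0, row8 x.q1, row8 x.q2, row8 x.q3, row8 x.q4, row8 x.q5, row8 x.q6, row8 x.q7]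

theorem digits8 {a0 a1 a2 a3 a4 a5 a6 a7 : ℕ} (h0 : a0 < 256) (h1 : a1 < 256) (h2 : a2 < 256)
    (h3 : a3 < 256) (h4 : a4 < 256) (h5 : a5 < 256) (h6 : a6 < 256) (h7 : a7 < 256) :
    let v := pack8 a0 a1 a2 a3 a4 a5 a6 a7
    v % 256 = a0 ∧ v / 256 % 256 = a1 ∧ v / 65536 % 256 = a2 ∧ v / 16777216 % 256 = a3 ∧ v / 4294967296 % 256 = a4 ∧ v / 1099511627776 % 256 = a5 ∧ v / 281474976710656 % 256 = a6 ∧ v / 72057594037927936 % 256 = a7 := by
  intro v
  simp only [v, pack8]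
  omega

theorem red8_digits (v : ℕ) :
    red8 v % 256 = v % 256 % 5 ∧ red8 v / 256 % 256 = v / 256 % 256 % 5 ∧ red8 v / 65536 % 256 = v / 65536 % 256 % 5 ∧ red8 v / 16777216 % 256 = v / 16777216 % 256 % 5 ∧ red8 v / 4294967296 % 256 = v / 4294967296 % 256 % 5 ∧ red8 v / 1099511627776 % 256 = v / 1099511627776 % 256 % 5 ∧ red8 v / 281474976710656 % 256 = v / 281474976710656 % 256 % 5 ∧ red8 v / 72057594037927936 % 256 = v / 72057594037927936 % 256 % 5 :=
  digits8 (by omega) (by omega) (by omega) (by omega) (by omega) (by omega) (by omega) (by omega)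

theorem row8_red8 (v : ℕ) : row8 (red8 v) = row8 v := by
  obtain ⟨e0, e1, e2, e3, e4, e5, e6, e7⟩ := red8_digits v
  simp only [row8, e0, e1, e2, e3, e4, e5, e6, e7, ZMod.natCast_mod]

theorem red8_eq_iff {v w : ℕ} : red8 v = red8 w ↔ row8 v = row8 w := by
  refine ⟨fun h => by rw [← row8_red8 v, h, row8_red8], fun h => ?_⟩
  have k : ∀ j, (row8 v j).val = (row8 w j).val := fun j => by rw [h]
  simp only [red8]
  have k0 : v % 256 % 5 = w % 256 % 5 := by simpa [row8, ZMod.val_natCast] using k 0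
  have k1 : v / 256 % 256 % 5 = w / 256 % 256 % 5 := by simpa [row8, ZMod.val_natCast] using k 1
  have k2 : v / 65536 % 256 % 5 = w / 65536 % 256 % 5 := by simpa [row8, ZMod.val_natCast] using k 2
  have k3 : v / 16777216 % 256 % 5 = w / 16777216 % 256 % 5 := by simpa [row8, ZMod.val_natCast] using k 3
  have k4 : v / 4294967296 % 256 % 5 = w / 4294967296 % 256 % 5 := by simpa [row8, ZMod.val_natCast] using k 4
  have k5 : v / 1099511627776 % 256 % 5 = w / 1099511627776 % 256 % 5 := by simpa [row8, ZMod.val_natCast] using k 5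
  have k6 : v / 281474976710656 % 256 % 5 = w / 281474976710656 % 256 % 5 := by simpa [row8, ZMod.val_natCast] using k 6
  have k7 : v / 72057594037927936 % 256 % 5 = w / 72057594037927936 % 256 % 5 := by simpa [row8, ZMod.val_natCast] using k 7
  rw [k0, k1, k2, k3, k4, k5, k6, k7]

/-- pack a vector -/
def packF (b : Fin 8 → ℕ) : ℕ := pack8 (b 0) (b 1) (b 2) (b 3) (b 4) (b 5) (b 6) (b 7)

theorem packF_sum {ι : Type} (s : Finset ι) (c : ι → ℕ) (b : ι → Fin 8 → ℕ) :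
    ∑ i ∈ s, c i * packF (b i) = packF fun j => ∑ i ∈ s, c i * b i j := by
  simp only [packF, pack8, mul_add, Finset.sum_add_distrib, Finset.mul_sum, mul_left_comm]

theorem row8_packF {b : Fin 8 → ℕ} (h : ∀ j, b j < 256) : row8 (packF b) = fun j => (b j : ZMod 5) := by
  obtain ⟨d0, d1, d2, d3, d4, d5, d6, d7⟩ :=
    digits8 (h 0) (h 1) (h 2) (h 3) (h 4) (h 5) (h 6) (h 7)
  funext j
  simp only [row8, packF, d0, d1, d2, d3, d4, d5, d6, d7]
  fin_cases j <;> rfl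

/-- digits of a packed row as a vector -/
def vec8 (v : ℕ) : Fin 8 → ℕ := ![v % 256 % 5, v / 256 % 256 % 5, v / 65536 % 256 % 5, v / 16777216 % 256 % 5, v / 4294967296 % 256 % 5, v / 1099511627776 % 256 % 5, v / 281474976710656 % 256 % 5, v / 72057594037927936 % 256 % 5]

theorem vec8_le (v : ℕ) (i : Fin 8) : vec8 v i ≤ 4 := by
  fin_cases i <;> simp [vec8] <;> omega

theorem cast_vec8 (v : ℕ) (i : Fin 8) : (vec8 v i : ZMod 5) = row8 v i := by
  fin_cases i <;> simp [vec8, row8, ZMod.natCast_mod]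

theorem red8_eq_packF (v : ℕ) : red8 v = packF (vec8 v) := rfl

theorem row8_rowMul8 (v : ℕ) (y : M8) :
    row8 (rowMul8 (red8 v) (norm8 y)) = vecMul (row8 v) (dec8 y) := by
  obtain ⟨e0, e1, e2, e3, e4, e5, e6, e7⟩ := red8_digits v
  let Y : Fin 8 → ℕ := ![y.q0, y.q1, y.q2, y.q3, y.q4, y.q5, y.q6, y.q7]
  rw [rowMul8, row8_red8, e0, e1, e2, e3, e4, e5, e6, e7]
  have hsum : v % 256 % 5 * (norm8 y).q0 + v / 256 % 256 % 5 * (norm8 y).q1 + v / 65536 % 256 % 5 * (norm8 y).q2 + v / 16777216 % 256 % 5 * (norm8 y).q3 + v / 4294967296 % 256 % 5 * (norm8 y).q4 + v / 1099511627776 % 256 % 5 * (norm8 y).q5 + v / 281474976710656 % 256 % 5 * (norm8 y).q6 + v / 72057594037927936 % 256 % 5 * (norm8 y).q7 =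
      ∑ i, vec8 v i * packF (vec8 (Y i)) := by
    rw [Fin.sum_univ_eight]
    rfl
  rw [hsum, packF_sum, row8_packF (fun j => ?_)]
  · funext j
    push_cast
    simp only [vecMul, dotProduct, cast_vec8]
    refine Finset.sum_congr rfl fun i _ => ?_
    congr 1
    fin_cases i <;> rfl
  · refine lt_of_le_of_lt (Finset.sum_le_sum fun i _ =>
      Nat.mul_le_mul (vec8_le v i) (vec8_le (Y i) j)) (by simp)

theorem dec8_mul (x y : M8) : dec8 (mul8 x y) = dec8 x * dec8 y := by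
  funext i
  rw [Matrix.mul_apply_eq_vecMul]
  fin_cases i <;> exact row8_rowMul8 _ y

theorem dec8_one : dec8 one8 = 1 := by decide +kernel

theorem eq8_iff {x y : M8} : eq8 x y = true ↔ dec8 x = dec8 y := by
  simp only [eq8, Bool.and_eq_true, Nat.beq_eq, red8_eq_iff, dec8, and_assoc]
  constructor
  · rintro ⟨a, b, c, d, e, f, g, h⟩; rw [a, b, c, d, e, f, g, h]
  · exact fun h => ⟨congrFun h 0, congrFun h 1, congrFun h 2, congrFun h 3, congrFun h 4, congrFun h 5,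
      congrFun h 6, congrFun h 7⟩

end CfsgLib.KnownB.Sz8
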