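import Cfsg.Agent.Lib.KnownB.Sz8.Field8
import Cfsg.Agent.Lib.KnownB.Sz8.M8
import Cfsg.Agent.Lib.KnownB.Mult.Main

/-!
Codes for triples of an element of `Sz(8)` and two `8 × 8` matrices modulo `5`.
-/

set_option autoImplicit false

namespace CfsgLib.KnownB.Sz8

open CfsgLib.KnownA.Suzuki

/-- a triple -/
structure C8 where
  a : M4
  b : M8
  c : M8

/-- product -/
def mulC (x y : C8) : C8 := ⟨mul4 x.a y.a, mul8 x.b y.b, mul8 x.c y.c⟩

/-- identity -/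
def one : C8 := ⟨one4, one8, one8⟩

/-- equality -/
def eqC (x y : C8) : Bool := eq4 x.a y.a && eq8 x.b y.b && eq8 x.c y.c

/-- mutually inverse codes -/
def invOK (q : C8 × C8) : Bool := eqC (mulC q.1 q.2) one && eqC (mulC q.2 q.1) one

variable {F : Type*} [Field F] (R : Root F)

variable (F) in
/-- the ambient group -/
abbrev Amb : Type _ := ↥(Cfsg.Lie.Sz F 4) × GL (Fin 8) (ZMod 5) × GL (Fin 8) (ZMod 5)

/-- `g` has code `x` -/
def RepA (g : Amb F) (x : C8) : Prop :=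
  mat g.1 = dec4 R x.a ∧ (g.2.1 : Matrix (Fin 8) (Fin 8) (ZMod 5)) = dec8 x.b ∧
    (g.2.2 : Matrix (Fin 8) (Fin 8) (ZMod 5)) = dec8 x.c

theorem RepA.mul {g h : Amb F} {x y : C8} (hg : RepA R g x) (hh : RepA R h y) :
    RepA R (g * h) (mulC x y) := by
  refine ⟨?_, ?_, ?_⟩
  · rw [mulC, dec4_mul, ← hg.1, ← hh.1]; rfl
  · rw [mulC, dec8_mul, ← hg.2.1, ← hh.2.1]; rfl
  · rw [mulC, dec8_mul, ← hg.2.2, ← hh.2.2]; rfl

theorem repA_one : RepA R 1 one := ⟨(dec4_one R).symm, dec8_one.symm, dec8_one.symm⟩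

theorem eqC_iff {g h : Amb F} {x y : C8} (hg : RepA R g x) (hh : RepA R h y) :
    eqC x y = true ↔ g = h := by
  rw [eqC, Bool.and_eq_true, Bool.and_eq_true, eq4_iff R, eq8_iff, eq8_iff, ← hg.1, ← hg.2.1,
    ← hg.2.2, ← hh.1, ← hh.2.1, ← hh.2.2]
  constructor
  · rintro ⟨⟨h1, h2⟩, h3⟩
    exact Prod.ext (Subtype.ext (Units.ext h1)) (Prod.ext (Units.ext h2) (Units.ext h3))
  · rintro rfl
    exact ⟨⟨rfl, rfl⟩, rfl⟩

theorem RepA.of_eqC {g : Amb F} {x y : C8} (hg : RepA R g x) (h : eqC y x = true) : RepA R g y := by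
  simp only [eqC, Bool.and_eq_true, eq4_iff R, eq8_iff] at h
  exact ⟨hg.1.trans h.1.1.symm, hg.2.1.trans h.1.2.symm, hg.2.2.trans h.2.symm⟩

theorem exists_amb (s : Cfsg.Lie.Sz F 4) {q : C8 × C8} (hs : mat s = dec4 R q.1.a)
    (h : invOK q = true) : ∃ g : Amb F, g.1 = s ∧ RepA R g q.1 := by
  simp only [invOK, eqC, Bool.and_eq_true, eq8_iff, mulC, one, dec8_mul, dec8_one] at h
  exact ⟨(s, ⟨_, _, h.1.1.2, h.2.1.2⟩, ⟨_, _, h.1.2, h.2.2⟩), rfl, hs, rfl, rfl⟩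

end CfsgLib.KnownB.Sz8
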