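import Cfsg.Agent.Lib.KnownB.Sz8.Data
import Cfsg.Agent.Lib.KnownA.Suzuki.Group
import Cfsg.Prelude.Def_KGroupFacts

/-!
The covering group of `Sz(8)` with centre a four-group, inside `Sz(8) × GL₈(5) × GL₈(5)`.
-/

set_option autoImplicit false
set_option maxRecDepth 100000
set_option Elab.async false

namespace CfsgLib.KnownB.Sz8

open CfsgLib.KnownA.Suzuki CfsgLib.KnownB.Mult
open scoped commutatorElement

/-- the code of a generator -/
def gq (k : ℕ) : C8 × C8 := genData.getD k (one, one)

/-- the torus code -/
def tC : C8 := (gq 8).1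

/-- the Weyl code -/
def wC : C8 := (gq 9).1

variable {F : Type*} [Field F] [Fintype F] (hF : Fintype.card F = 8) (R : Root F)

include hF in
theorem titsField8 : TitsField F 4 := titsField_of_card (m := 1) hF

theorem inv_checks : (List.range 10).all (fun k => invOK (gq k)) = true := by decide +kernel

theorem fst_checks : ((List.range 8).all (fun k =>
      eq4 (gq k).1.a (uK (uData.getD k (0, 0)).1 (uData.getD k (0, 0)).2)) &&
    eq4 tC.a (hK tData) && eq4 wC.a wK && !Nat.beq (tData % 8) 0) = true := by decide +kernel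

/-- the generators -/
def genSet : Set (Amb F) := {g | ∃ k < 10, RepA R g (gq k).1}

variable (F) in
/-- the covering group -/
abbrev Cover : Subgroup (Amb F) := Subgroup.closure (genSet R)

include hF in
theorem exists_gen (k : ℕ) (hk : k < 10) : ∃ g : Cover F R, RepA R (g : Amb F) (gq k).1 ∧
    (g : Amb F).1 = (if k < 8 then su (titsField8 hF) (phi R (uData.getD k (0, 0)).1)
      (phi R (uData.getD k (0, 0)).2)
    else if k = 8 then sh (titsField8 hF) (Units.mk0 (phi R tData) (fun h => by
      have := fst_checks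
      simp only [Bool.and_eq_true, Bool.not_eq_true', ← Bool.not_eq_true, Nat.beq_eq] at this
      have h' := (phi_eq_iff R).1 (h.trans (phi_zero R).symm)
      exact this.2 h'))
    else sw (titsField8 hF)) := by
  have hinv := List.all_eq_true.1 inv_checks k (List.mem_range.2 hk)
  have hf := fst_checks
  simp only [Bool.and_eq_true, List.all_eq_true, List.mem_range, Bool.not_eq_true',
    ← Bool.not_eq_true, Nat.beq_eq] at hf
  obtain ⟨⟨⟨hu, ht⟩, hw⟩, ht0⟩ := hf
  have mk : ∀ s : Cfsg.Lie.Sz F 4, mat s = dec4 R (gq k).1.a →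
      ∃ g : Cover F R, RepA R (g : Amb F) (gq k).1 ∧ (g : Amb F).1 = s := fun s hs => by
    obtain ⟨g, hg1, hg2⟩ := exists_amb R s hs hinv
    exact ⟨⟨g, Subgroup.subset_closure ⟨k, hk, hg2⟩⟩, hg2, hg1⟩
  split_ifs with h8 h9
  · exact mk _ (((eq4_iff R).1 (hu k h8)).trans (dec4_uK R _ _)).symm
  · subst h9
    exact mk _ (((eq4_iff R).1 ht).trans
      (dec4_hK R hF fun h => ht0 ((phi_eq_iff R).1 (h.trans (phi_zero R).symm)))).symm
  · obtain rfl : k = 9 := by omega
    exact mk _ (((eq4_iff R).1 hw).trans (dec4_wK R)).symm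

/-- the code of the covering group -/
def code : Code (Cover F R) C8 where
  rep g x := RepA R (g : Amb F) x
  mul := mulC
  one := one
  eqc := eqC
  okc x := (List.range 10).any fun k => eqC x (gq k).1
  rep_mul h h' := h.mul R h'
  rep_one := repA_one R
  eq_iff h h' := (eqC_iff R h h').trans Subtype.ext_iff.symm
  exists_rep {x} h := by
    simp only [List.any_eq_true, List.mem_range] at h
    obtain ⟨k, hk, hx⟩ := h
    obtain ⟨g, hg, -⟩ := exists_gen hF R k hk
    exact ⟨g, hg.of_eqC R hx⟩

/-- code of a word in the Sylow subgroup -/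
def evw (w : List ℕ) : C8 := w.foldr (fun a e => mulC (cert2.σ.getD a one) e) one

/-- powers -/
def powT : ℕ → C8
  | 0 => one
  | a + 1 => mulC tC (powT a)

theorem gen_ok : cert2.σ.length = 8 ∧ (cert2.conjs.all fun q => eqC q.1 tC) = true ∧
    cert2.conjs.length = 8 := by
  refine ⟨by decide +kernel, by decide +kernel, by decide +kernel⟩

theorem src_ok : ((List.range 8).all fun k =>
    eqC (cert2.σ.getD k one) (gq k).1 && eqW (cert2.conjs.getD k (one, [], [])).2.1 [k]) = true := by
  decide +kernel

/-- the kernel words -/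
def zC : List C8 := zWords.map evw

end CfsgLib.KnownB.Sz8
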