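import Cfsg.Agent.Lib.KnownB.Sz8.Code

/-! Generated data for the covering group of `Sz(8)`. -/

set_option autoImplicit false
set_option maxRecDepth 100000

namespace CfsgLib.KnownB.Sz8

open CfsgLib.KnownB.Mult

/-- generators and their inverses: lifts of six unitriangular elements, two central elements, a torus element and the Weyl element -/
def genData : List (C8 × C8) := [
  (⟨⟨⟨1, 0, 0, 0⟩, ⟨1, 1, 0, 0⟩, ⟨0, 1, 1, 0⟩, ⟨1, 1, 1, 1⟩⟩,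
    ⟨1024, 1, 67108864, 65536, 1099511627776, 4294967296, 72057594037927936, 281474976710656⟩,
    ⟨256, 1, 67108864, 65536, 1099511627776, 4294967296, 288230376151711744, 281474976710656⟩⟩,
   ⟨⟨⟨1, 0, 0, 0⟩, ⟨1, 1, 0, 0⟩, ⟨1, 1, 1, 0⟩, ⟨1, 0, 1, 1⟩⟩,
    ⟨256, 4, 16777216, 262144, 1099511627776, 4294967296, 72057594037927936, 281474976710656⟩,
    ⟨256, 1, 16777216, 262144, 1099511627776, 4294967296, 72057594037927936, 1125899906842624⟩⟩),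
  (⟨⟨⟨1, 0, 0, 0⟩, ⟨2, 1, 0, 0⟩, ⟨0, 6, 1, 0⟩, ⟨5, 7, 2, 1⟩⟩,
    ⟨65536, 67108864, 1, 256, 281474976710656, 288230376151711744, 4294967296, 1099511627776⟩,
    ⟨262144, 67108864, 1, 256, 281474976710656, 288230376151711744, 4294967296, 4398046511104⟩⟩,
   ⟨⟨⟨1, 0, 0, 0⟩, ⟨2, 1, 0, 0⟩, ⟨7, 6, 1, 0⟩, ⟨5, 0, 2, 1⟩⟩,
    ⟨65536, 16777216, 1, 1024, 281474976710656, 72057594037927936, 4294967296, 4398046511104⟩,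
    ⟨65536, 16777216, 4, 1024, 281474976710656, 288230376151711744, 4294967296, 4398046511104⟩⟩),
  (⟨⟨⟨1, 0, 0, 0⟩, ⟨4, 1, 0, 0⟩, ⟨0, 2, 1, 0⟩, ⟨7, 3, 4, 1⟩⟩,
    ⟨17179869184, 1099511627776, 281474976710656, 288230376151711744, 1, 256, 65536, 16777216⟩,
    ⟨17179869184, 1099511627776, 1125899906842624, 288230376151711744, 1, 256, 65536, 67108864⟩⟩,
   ⟨⟨⟨1, 0, 0, 0⟩, ⟨4, 1, 0, 0⟩, ⟨3, 2, 1, 0⟩, ⟨7, 0, 4, 1⟩⟩,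
    ⟨4294967296, 1099511627776, 281474976710656, 72057594037927936, 4, 256, 65536, 67108864⟩,
    ⟨4294967296, 1099511627776, 281474976710656, 288230376151711744, 4, 256, 262144, 67108864⟩⟩),
  (⟨⟨⟨1, 0, 0, 0⟩, ⟨0, 1, 0, 0⟩, ⟨1, 0, 1, 0⟩, ⟨1, 1, 0, 1⟩⟩,
    ⟨1, 256, 65536, 16777216, 17179869184, 4398046511104, 1125899906842624, 288230376151711744⟩,
    ⟨1, 256, 262144, 67108864, 4294967296, 1099511627776, 1125899906842624, 288230376151711744⟩⟩,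
   ⟨⟨⟨1, 0, 0, 0⟩, ⟨0, 1, 0, 0⟩, ⟨1, 0, 1, 0⟩, ⟨1, 1, 0, 1⟩⟩,
    ⟨1, 256, 65536, 16777216, 17179869184, 4398046511104, 1125899906842624, 288230376151711744⟩,
    ⟨1, 256, 262144, 67108864, 4294967296, 1099511627776, 1125899906842624, 288230376151711744⟩⟩),
  (⟨⟨⟨1, 0, 0, 0⟩, ⟨0, 1, 0, 0⟩, ⟨2, 0, 1, 0⟩, ⟨6, 2, 0, 1⟩⟩,
    ⟨1, 1024, 262144, 16777216, 17179869184, 1099511627776, 281474976710656, 288230376151711744⟩,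
    ⟨1, 1024, 262144, 16777216, 4294967296, 4398046511104, 1125899906842624, 72057594037927936⟩⟩,
   ⟨⟨⟨1, 0, 0, 0⟩, ⟨0, 1, 0, 0⟩, ⟨2, 0, 1, 0⟩, ⟨6, 2, 0, 1⟩⟩,
    ⟨1, 1024, 262144, 16777216, 17179869184, 1099511627776, 281474976710656, 288230376151711744⟩,
    ⟨1, 1024, 262144, 16777216, 4294967296, 4398046511104, 1125899906842624, 72057594037927936⟩⟩),
  (⟨⟨⟨1, 0, 0, 0⟩, ⟨0, 1, 0, 0⟩, ⟨4, 0, 1, 0⟩, ⟨2, 4, 0, 1⟩⟩,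
    ⟨1, 256, 262144, 67108864, 4294967296, 1099511627776, 1125899906842624, 288230376151711744⟩,
    ⟨1, 1024, 65536, 67108864, 17179869184, 1099511627776, 1125899906842624, 72057594037927936⟩⟩,
   ⟨⟨⟨1, 0, 0, 0⟩, ⟨0, 1, 0, 0⟩, ⟨4, 0, 1, 0⟩, ⟨2, 4, 0, 1⟩⟩,
    ⟨1, 256, 262144, 67108864, 4294967296, 1099511627776, 1125899906842624, 288230376151711744⟩,
    ⟨1, 1024, 65536, 67108864, 17179869184, 1099511627776, 1125899906842624, 72057594037927936⟩⟩),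
  (⟨⟨⟨1, 0, 0, 0⟩, ⟨0, 1, 0, 0⟩, ⟨0, 0, 1, 0⟩, ⟨0, 0, 0, 1⟩⟩,
    ⟨4, 1024, 262144, 67108864, 17179869184, 4398046511104, 1125899906842624, 288230376151711744⟩,
    ⟨1, 256, 65536, 16777216, 4294967296, 1099511627776, 281474976710656, 72057594037927936⟩⟩,
   ⟨⟨⟨1, 0, 0, 0⟩, ⟨0, 1, 0, 0⟩, ⟨0, 0, 1, 0⟩, ⟨0, 0, 0, 1⟩⟩,
    ⟨4, 1024, 262144, 67108864, 17179869184, 4398046511104, 1125899906842624, 288230376151711744⟩,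
    ⟨1, 256, 65536, 16777216, 4294967296, 1099511627776, 281474976710656, 72057594037927936⟩⟩),
  (⟨⟨⟨1, 0, 0, 0⟩, ⟨0, 1, 0, 0⟩, ⟨0, 0, 1, 0⟩, ⟨0, 0, 0, 1⟩⟩,
    ⟨1, 256, 65536, 16777216, 4294967296, 1099511627776, 281474976710656, 72057594037927936⟩,
    ⟨4, 1024, 262144, 67108864, 17179869184, 4398046511104, 1125899906842624, 288230376151711744⟩⟩,
   ⟨⟨⟨1, 0, 0, 0⟩, ⟨0, 1, 0, 0⟩, ⟨0, 0, 1, 0⟩, ⟨0, 0, 0, 1⟩⟩,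
    ⟨1, 256, 65536, 16777216, 4294967296, 1099511627776, 281474976710656, 72057594037927936⟩,
    ⟨4, 1024, 262144, 67108864, 17179869184, 4398046511104, 1125899906842624, 288230376151711744⟩⟩),
  (⟨⟨⟨6, 0, 0, 0⟩, ⟨0, 7, 0, 0⟩, ⟨0, 0, 4, 0⟩, ⟨0, 0, 0, 3⟩⟩,
    ⟨1099511627776, 1, 4294967296, 256, 72057594037927936, 65536, 281474976710656, 16777216⟩,
    ⟨65536, 288230376151711744, 16777216, 281474976710656, 4, 1099511627776, 1024, 17179869184⟩⟩,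
   ⟨⟨⟨3, 0, 0, 0⟩, ⟨0, 4, 0, 0⟩, ⟨0, 0, 7, 0⟩, ⟨0, 0, 0, 6⟩⟩,
    ⟨256, 16777216, 1099511627776, 72057594037927936, 65536, 1, 281474976710656, 4294967296⟩,
    ⟨17179869184, 1125899906842624, 1, 65536, 288230376151711744, 1099511627776, 16777216, 1024⟩⟩),
  (⟨⟨⟨0, 0, 0, 1⟩, ⟨0, 0, 1, 0⟩, ⟨0, 1, 0, 0⟩, ⟨1, 0, 0, 0⟩⟩,
    ⟨288515166893572864, 288511855490695939, 216458668022170369, 72342380501533699, 285885958652164, 216455373832585219, 72621647814787329, 216457555642352644⟩,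
    ⟨216173890282651905, 73187892024967937, 217299798712386051, 72903127136731652, 72343479979868162, 72341285234607105, 217018310901105664, 845528753701123⟩⟩,
   ⟨⟨⟨0, 0, 0, 1⟩, ⟨0, 0, 1, 0⟩, ⟨0, 1, 0, 0⟩, ⟨1, 0, 0, 0⟩⟩,
    ⟨288515166893572864, 288511855490695939, 216458668022170369, 72342380501533699, 285885958652164, 216455373832585219, 72621647814787329, 216457555642352644⟩,
    ⟨216173890282651905, 73187892024967937, 217299798712386051, 72903127136731652, 72343479979868162, 72341285234607105, 217018310901105664, 845528753701123⟩⟩)]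

/-- parameters of the unitriangular generators -/
def uData : List (ℕ × ℕ) := [(1, 0), (2, 0), (4, 0), (0, 1), (0, 2), (0, 4), (0, 0), (0, 0)]

/-- parameter of the torus element -/
def tData : ℕ := 7

/-- exponents of the torus element giving all torus parameters -/
def tExp : List ℕ := [0, 3, 2, 6, 4, 5, 1]

/-- words for all unitriangular parameters -/
def uWords : List (List ℕ) := [[], [3], [4], [3, 4], [5], [3, 5], [4, 5], [3, 4, 5], [0], [0, 3], [0, 4], [0, 3, 4], [0, 5], [0, 3, 5], [0, 4, 5], [0, 3, 4, 5], [1], [1, 3], [1, 4], [1, 3, 4], [1, 5], [1, 3, 5], [1, 4, 5], [1, 3, 4, 5], [0, 1, 4], [0, 1, 3, 4], [0, 1], [0, 1, 3], [0, 1, 4, 5], [0, 1, 3, 4, 5], [0, 1, 5], [0, 1, 3, 5], [2], [2, 3], [2, 4], [2, 3, 4], [2, 5], [2, 3, 5], [2, 4, 5], [2, 3, 4, 5], [0, 2, 5], [0, 2, 3, 5], [0,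 2, 4, 5], [0, 2, 3, 4, 5], [0, 2], [0, 2, 3], [0, 2, 4], [0, 2, 3, 4], [1, 2, 3, 5], [1, 2, 5], [1, 2, 3, 4, 5], [1, 2, 4, 5], [1, 2, 3], [1, 2], [1, 2, 3, 4], [1, 2, 4], [0, 1, 2, 3, 4], [0, 1, 2, 4], [0, 1, 2, 3], [0, 1, 2], [0, 1, 2, 3, 4, 5], [0, 1, 2, 4, 5], [0, 1, 2, 3, 5], [0, 1, 2, 5]]

/-- the central words -/
def zWords : List (List ℕ) := [[], [7], [6], [6, 7]]

/-- `W e W` for the elements `e` of the Sylow subgroup -/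
def bru : List (Option (List ℕ × List ℕ × ℕ) × List ℕ) := [
  (none, []),
  (none, [7]),
  (none, [6]),
  (none, [6, 7]),
  (some ([1, 6, 7], [0, 2], 5), []),
  (some ([1, 6], [0, 2], 5), []),
  (some ([1, 7], [0, 2], 5), []),
  (some ([1], [0, 2], 5), []),
  (some ([1, 2, 3, 5, 7], [0, 1], 6), []),
  (some ([1, 2, 3, 5], [0, 1], 6), []),
  (some ([1, 2, 3, 5, 6, 7], [0, 1], 6), []),
  (some ([1, 2, 3, 5, 6], [0, 1], 6), []),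
  (some ([2, 6, 7], [0, 1, 2, 3, 5], 3), []),
  (some ([2, 6], [0, 1, 2, 3, 5], 3), []),
  (some ([2, 7], [0, 1, 2, 3, 5], 3), []),
  (some ([2], [0, 1, 2, 3, 5], 3), []),
  (some ([0], [0, 3], 0), []),
  (some ([0, 7], [0, 3], 0), []),
  (some ([0, 6], [0, 3], 0), []),
  (some ([0, 6, 7], [0, 3], 0), []),
  (some ([0, 1, 4, 7], [1, 2], 1), []),
  (some ([0, 1, 4], [1, 2], 1), []),
  (some ([0, 1, 4, 6, 7], [1, 2], 1), []),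
  (some ([0, 1, 4, 6], [1, 2], 1), []),
  (some ([0, 1, 2, 3, 4, 6, 7], [2, 3, 4], 4), []),
  (some ([0, 1, 2, 3, 4, 6], [2, 3, 4], 4), []),
  (some ([0, 1, 2, 3, 4, 7], [2, 3, 4], 4), []),
  (some ([0, 1, 2, 3, 4], [2, 3, 4], 4), []),
  (some ([0, 2, 5, 6, 7], [1, 3, 4, 5], 2), []),
  (some ([0, 2, 5, 6], [1, 3, 4, 5], 2), []),
  (some ([0, 2, 5, 7], [1, 3, 4, 5], 2), []),
  (some ([0, 2, 5], [1, 3, 4, 5], 2), []),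
  (some ([4, 5, 6, 7], [2], 4), []),
  (some ([4, 5, 6], [2], 4), []),
  (some ([4, 5, 7], [2], 4), []),
  (some ([4, 5], [2], 4), []),
  (some ([0, 2, 3, 6, 7], [0, 1, 4, 5], 1), []),
  (some ([0, 2, 3, 6], [0, 1, 4, 5], 1), []),
  (some ([0, 2, 3, 7], [0, 1, 4, 5], 1), []),
  (some ([0, 2, 3], [0, 1, 4, 5], 1), []),
  (some ([0, 4, 6, 7], [1, 2, 3, 4, 5], 5), []),
  (some ([0, 4, 6], [1, 2, 3, 4, 5], 5), []),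
  (some ([0, 4, 7], [1, 2, 3, 4, 5], 5), []),
  (some ([0, 4], [1, 2, 3, 4, 5], 5), []),
  (some ([0, 3, 4, 5, 6, 7], [1, 4, 5], 6), []),
  (some ([0, 3, 4, 5, 6], [1, 4, 5], 6), []),
  (some ([0, 3, 4, 5, 7], [1, 4, 5], 6), []),
  (some ([0, 3, 4, 5], [1, 4, 5], 6), []),
  (some ([0, 2, 4, 5, 6], [0, 1, 2, 4], 5), []),
  (some ([0, 2, 4, 5, 6, 7], [0, 1, 2, 4], 5), []),
  (some ([0, 2, 4, 5], [0, 1, 2, 4], 5), []),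
  (some ([0, 2, 4, 5, 7], [0, 1, 2, 4], 5), []),
  (some ([2, 3, 4, 5], [0, 2, 3], 6), []),
  (some ([2, 3, 4, 5, 7], [0, 2, 3], 6), []),
  (some ([2, 3, 4, 5, 6], [0, 2, 3], 6), []),
  (some ([2, 3, 4, 5, 6, 7], [0, 2, 3], 6), []),
  (some ([0, 1, 2, 3, 5], [3, 4], 4), []),
  (some ([0, 1, 2, 3, 5, 7], [3, 4], 4), []),
  (some ([0, 1, 2, 3, 5, 6], [3, 4], 4), []),
  (some ([0, 1, 2, 3, 5, 6, 7], [3, 4], 4), []),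
  (some ([2, 3, 5], [0, 3, 4, 5], 1), []),
  (some ([2, 3, 5, 7], [0, 3, 4, 5], 1), []),
  (some ([2, 3, 5, 6], [0, 3, 4, 5], 1), []),
  (some ([2, 3, 5, 6, 7], [0, 3, 4, 5], 1), []),
  (some ([5, 6], [1], 2), []),
  (some ([5, 6, 7], [1], 2), []),
  (some ([5], [1], 2), []),
  (some ([5, 7], [1], 2), []),
  (some ([0, 3, 5, 6], [1, 2, 3], 3), []),
  (some ([0, 3, 5, 6, 7], [1, 2, 3], 3), []),
  (some ([0, 3, 5], [1, 2, 3], 3), []),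
  (some ([0, 3, 5, 7], [1, 2, 3], 3), []),
  (some ([0, 1, 3, 6], [0, 1, 2, 3], 4), []),
  (some ([0, 1, 3, 6, 7], [0, 1, 2, 3], 4), []),
  (some ([0, 1, 3], [0, 1, 2, 3], 4), []),
  (some ([0, 1, 3, 7], [0, 1, 2, 3], 4), []),
  (some ([0, 4, 5, 6, 7], [2, 4, 5], 6), []),
  (some ([0, 4, 5, 6], [2, 4, 5], 6), []),
  (some ([0, 4, 5, 7], [2, 4, 5], 6), []),
  (some ([0, 4, 5], [2, 4, 5], 6), []),
  (some ([0, 1, 5], [0, 2, 3, 5], 6), []),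
  (some ([0, 1, 5, 7], [0, 2, 3, 5], 6), []),
  (some ([0, 1, 5, 6], [0, 2, 3, 5], 6), []),
  (some ([0, 1, 5, 6, 7], [0, 2, 3, 5], 6), []),
  (some ([1, 3, 4, 7], [0, 3, 5], 4), []),
  (some ([1, 3, 4], [0, 3, 5], 4), []),
  (some ([1, 3, 4, 6, 7], [0, 3, 5], 4), []),
  (some ([1, 3, 4, 6], [0, 3, 5], 4), []),
  (some ([1, 3, 5, 6, 7], [0, 1, 3], 3), []),
  (some ([1, 3, 5, 6], [0, 1, 3], 3), []),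
  (some ([1, 3, 5, 7], [0, 1, 3], 3), []),
  (some ([1, 3, 5], [0, 1, 3], 3), []),
  (some ([0, 2, 7], [3, 4, 5], 2), []),
  (some ([0, 2], [3, 4, 5], 2), []),
  (some ([0, 2, 6, 7], [3, 4, 5], 2), []),
  (some ([0, 2, 6], [3, 4, 5], 2), []),
  (some ([0, 1], [3, 5], 1), []),
  (some ([0, 1, 7], [3, 5], 1), []),
  (some ([0, 1, 6], [3, 5], 1), []),
  (some ([0, 1, 6, 7], [3, 5], 1), []),
  (some ([0, 1, 2, 3, 4, 5, 6], [0, 1, 3, 4], 3), []),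
  (some ([0, 1, 2, 3, 4, 5, 6, 7], [0, 1, 3, 4], 3), []),
  (some ([0, 1, 2, 3, 4, 5], [0, 1, 3, 4], 3), []),
  (some ([0, 1, 2, 3, 4, 5, 7], [0, 1, 3, 4], 3), []),
  (some ([1, 2, 4, 5], [0, 1, 2, 5], 5), []),
  (some ([1, 2, 4, 5, 7], [0, 1, 2, 5], 5), []),
  (some ([1, 2, 4, 5, 6], [0, 1, 2, 5], 5), []),
  (some ([1, 2, 4, 5, 6, 7], [0, 1, 2, 5], 5), []),
  (some ([1, 2, 4, 6], [0, 3, 4], 2), []),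
  (some ([1, 2, 4, 6, 7], [0, 3, 4], 2), []),
  (some ([1, 2, 4], [0, 3, 4], 2), []),
  (some ([1, 2, 4, 7], [0, 3, 4], 2), []),
  (some ([0, 5, 7], [1, 5], 3), []),
  (some ([0, 5], [1, 5], 3), []),
  (some ([0, 5, 6, 7], [1, 5], 3), []),
  (some ([0, 5, 6], [1, 5], 3), []),
  (some ([4, 7], [1, 2, 3, 5], 1), []),
  (some ([4], [1, 2, 3, 5], 1), []),
  (some ([4, 6, 7], [1, 2, 3, 5], 1), []),
  (some ([4, 6], [1, 2, 3, 5], 1), []),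
  (some ([0, 1, 2, 5, 6, 7], [0, 2, 4], 2), []),
  (some ([0, 1, 2, 5, 6], [0, 2, 4], 2), []),
  (some ([0, 1, 2, 5, 7], [0, 2, 4], 2), []),
  (some ([0, 1, 2, 5], [0, 2, 4], 2), []),
  (some ([0, 3, 4, 6], [2, 4], 5), []),
  (some ([0, 3, 4, 6, 7], [2, 4], 5), []),
  (some ([0, 3, 4], [2, 4], 5), []),
  (some ([0, 3, 4, 7], [2, 4], 5), []),
  (some ([3, 6], [0], 0), []),
  (some ([3, 6, 7], [0], 0), []),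
  (some ([3], [0], 0), []),
  (some ([3, 7], [0], 0), []),
  (some ([1, 2, 3], [0, 1, 2, 3, 4, 5], 4), []),
  (some ([1, 2, 3, 7], [0, 1, 2, 3, 4, 5], 4), []),
  (some ([1, 2, 3, 6], [0, 1, 2, 3, 4, 5], 4), []),
  (some ([1, 2, 3, 6, 7], [0, 1, 2, 3, 4, 5], 4), []),
  (some ([2, 4], [0, 2, 4, 5], 2), []),
  (some ([2, 4, 7], [0, 2, 4, 5], 2), []),
  (some ([2, 4, 6], [0, 2, 4, 5], 2), []),
  (some ([2, 4, 6, 7], [0, 2, 4, 5], 2), []),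
  (some ([1, 4, 5], [0, 1, 5], 1), []),
  (some ([1, 4, 5, 7], [0, 1, 5], 1), []),
  (some ([1, 4, 5, 6], [0, 1, 5], 1), []),
  (some ([1, 4, 5, 6, 7], [0, 1, 5], 1), []),
  (some ([0, 3, 6], [3], 0), []),
  (some ([0, 3, 6, 7], [3], 0), []),
  (some ([0, 3], [3], 0), []),
  (some ([0, 3, 7], [3], 0), []),
  (some ([1, 5, 6], [1, 3, 5], 4), []),
  (some ([1, 5, 6, 7], [1, 3, 5], 4), []),
  (some ([1, 5], [1, 3, 5], 4), []),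
  (some ([1, 5, 7], [1, 3, 5], 4), []),
  (some ([1, 2, 3, 4, 5, 6, 7], [1, 2, 4, 5], 2), []),
  (some ([1, 2, 3, 4, 5, 6], [1, 2, 4, 5], 2), []),
  (some ([1, 2, 3, 4, 5, 7], [1, 2, 4, 5], 2), []),
  (some ([1, 2, 3, 4, 5], [1, 2, 4, 5], 2), []),
  (some ([2, 4, 5], [2, 3, 4, 5], 1), []),
  (some ([2, 4, 5, 7], [2, 3, 4, 5], 1), []),
  (some ([2, 4, 5, 6], [2, 3, 4, 5], 1), []),
  (some ([2, 4, 5, 6, 7], [2, 3, 4, 5], 1), []),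
  (some ([1, 3, 4, 5, 6], [5], 5), []),
  (some ([1, 3, 4, 5, 6, 7], [5], 5), []),
  (some ([1, 3, 4, 5], [5], 5), []),
  (some ([1, 3, 4, 5, 7], [5], 5), []),
  (some ([3, 4, 5, 7], [0, 2, 5], 5), []),
  (some ([3, 4, 5], [0, 2, 5], 5), []),
  (some ([3, 4, 5, 6, 7], [0, 2, 5], 5), []),
  (some ([3, 4, 5, 6], [0, 2, 5], 5), []),
  (some ([0, 1, 2, 4, 6, 7], [1, 2, 3, 4], 2), []),
  (some ([0, 1, 2, 4, 6], [1, 2, 3, 4], 2), []),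
  (some ([0, 1, 2, 4, 7], [1, 2, 3, 4], 2), []),
  (some ([0, 1, 2, 4], [1, 2, 3, 4], 2), []),
  (some ([2, 3, 7], [0, 4], 2), []),
  (some ([2, 3], [0, 4], 2), []),
  (some ([2, 3, 6, 7], [0, 4], 2), []),
  (some ([2, 3, 6], [0, 4], 2), []),
  (some ([2, 5, 6], [2, 3, 5], 6), []),
  (some ([2, 5, 6, 7], [2, 3, 5], 6), []),
  (some ([2, 5], [2, 3, 5], 6), []),
  (some ([2, 5, 7], [2, 3, 5], 6), []),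
  (some ([0, 1, 4, 5, 6], [1, 3], 6), []),
  (some ([0, 1, 4, 5, 6, 7], [1, 3], 6), []),
  (some ([0, 1, 4, 5], [1, 3], 6), []),
  (some ([0, 1, 4, 5, 7], [1, 3], 6), []),
  (some ([0, 1, 2, 4, 5, 6], [0, 1, 3, 5], 0), []),
  (some ([0, 1, 2, 4, 5, 6, 7], [0, 1, 3, 5], 0), []),
  (some ([0, 1, 2, 4, 5], [0, 1, 3, 5], 0), []),
  (some ([0, 1, 2, 4, 5, 7], [0, 1, 3, 5], 0), []),
  (some ([0, 1, 3, 4, 5, 6], [0, 1, 2], 0), []),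
  (some ([0, 1, 3, 4, 5, 6, 7], [0, 1, 2], 0), []),
  (some ([0, 1, 3, 4, 5], [0, 1, 2], 0), []),
  (some ([0, 1, 3, 4, 5, 7], [0, 1, 2], 0), []),
  (some ([1, 2, 7], [4], 6), []),
  (some ([1, 2], [4], 6), []),
  (some ([1, 2, 6, 7], [4], 6), []),
  (some ([1, 2, 6], [4], 6), []),
  (some ([1, 3], [0, 4, 5], 1), []),
  (some ([1, 3, 7], [0, 4, 5], 1), []),
  (some ([1, 3, 6], [0, 4, 5], 1), []),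
  (some ([1, 3, 6, 7], [0, 4, 5], 1), []),
  (some ([3, 5], [0, 1, 4], 6), []),
  (some ([3, 5, 7], [0, 1, 4], 6), []),
  (some ([3, 5, 6], [0, 1, 4], 6), []),
  (some ([3, 5, 6, 7], [0, 1, 4], 6), []),
  (some ([0, 2, 3, 5, 6, 7], [2, 5], 1), []),
  (some ([0, 2, 3, 5, 6], [2, 5], 1), []),
  (some ([0, 2, 3, 5, 7], [2, 5], 1), []),
  (some ([0, 2, 3, 5], [2, 5], 1), []),
  (some ([1, 4, 7], [1, 3, 4], 3), []),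
  (some ([1, 4], [1, 3, 4], 3), []),
  (some ([1, 4, 6, 7], [1, 3, 4], 3), []),
  (some ([1, 4, 6], [1, 3, 4], 3), []),
  (some ([0, 1, 2], [0, 2, 3, 4], 0), []),
  (some ([0, 1, 2, 7], [0, 2, 3, 4], 0), []),
  (some ([0, 1, 2, 6], [0, 2, 3, 4], 0), []),
  (some ([0, 1, 2, 6, 7], [0, 2, 3, 4], 0), []),
  (some ([0, 1, 2, 3, 6, 7], [1, 2, 5], 3), []),
  (some ([0, 1, 2, 3, 6], [1, 2, 5], 3), []),
  (some ([0, 1, 2, 3, 7], [1, 2, 5], 3), []),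
  (some ([0, 1, 2, 3], [1, 2, 5], 3), []),
  (some ([0, 2, 3, 4, 5], [0, 1, 2, 4, 5], 0), []),
  (some ([0, 2, 3, 4, 5, 7], [0, 1, 2, 4, 5], 0), []),
  (some ([0, 2, 3, 4, 5, 6], [0, 1, 2, 4, 5], 0), []),
  (some ([0, 2, 3, 4, 5, 6, 7], [0, 1, 2, 4, 5], 0), []),
  (some ([0, 1, 3, 5, 7], [0, 2, 3, 4, 5], 0), []),
  (some ([0, 1, 3, 5], [0, 2, 3, 4, 5], 0), []),
  (some ([0, 1, 3, 5, 6, 7], [0, 2, 3, 4, 5], 0), []),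
  (some ([0, 1, 3, 5, 6], [0, 2, 3, 4, 5], 0), []),
  (some ([1, 2, 3, 4, 6], [1, 2, 4], 5), []),
  (some ([1, 2, 3, 4, 6, 7], [1, 2, 4], 5), []),
  (some ([1, 2, 3, 4], [1, 2, 4], 5), []),
  (some ([1, 2, 3, 4, 7], [1, 2, 4], 5), []),
  (some ([0, 2, 4, 7], [2, 3], 5), []),
  (some ([0, 2, 4], [2, 3], 5), []),
  (some ([0, 2, 4, 6, 7], [2, 3], 5), []),
  (some ([0, 2, 4, 6], [2, 3], 5), []),
  (some ([0, 2, 3, 4, 7], [0, 1, 3, 4, 5], 0), []),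
  (some ([0, 2, 3, 4], [0, 1, 3, 4, 5], 0), []),
  (some ([0, 2, 3, 4, 6, 7], [0, 1, 3, 4, 5], 0), []),
  (some ([0, 2, 3, 4, 6], [0, 1, 3, 4, 5], 0), []),
  (some ([0, 1, 3, 4, 6], [1, 4], 4), []),
  (some ([0, 1, 3, 4, 6, 7], [1, 4], 4), []),
  (some ([0, 1, 3, 4], [1, 4], 4), []),
  (some ([0, 1, 3, 4, 7], [1, 4], 4), []),
  (some ([2, 3, 4], [4, 5], 3), []),
  (some ([2, 3, 4, 7], [4, 5], 3), []),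
  (some ([2, 3, 4, 6], [4, 5], 3), []),
  (some ([2, 3, 4, 6, 7], [4, 5], 3), []),
  (some ([3, 4, 6, 7], [0, 1, 2, 3, 4], 3), []),
  (some ([3, 4, 6], [0, 1, 2, 3, 4], 3), []),
  (some ([3, 4, 7], [0, 1, 2, 3, 4], 3), []),
  (some ([3, 4], [0, 1, 2, 3, 4], 3), []),
  (some ([1, 2, 5, 6, 7], [0, 5], 4), []),
  (some ([1, 2, 5, 6], [0, 5], 4), []),
  (some ([1, 2, 5, 7], [0, 5], 4), []),
  (some ([1, 2, 5], [0, 5], 4), [])]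

/-- commuting pairs whose lifts have commutator the two central generators -/
def comms : List (List ℕ × List ℕ × List ℕ) := [([5], [2], [7]), ([5], [1], [6])]

/-- certificate at `2` -/
def cert2 : Cert C8 where
  n := 8
  σ := genData.take 8 |>.map Prod.fst
  rules := [([0, 0], [3, 6]), ([1, 1], [3, 4, 5, 7]), ([2, 2], [3, 4, 6, 7]), ([3, 3], []), ([4, 4], []), ([5, 5], []), ([6, 6], []), ([7, 7], []), ([1, 0], [0, 1, 5]), ([2, 0], [0, 2, 4, 5]), ([3, 0], [0, 3]), ([4, 0], [0, 4, 6, 7]), ([5, 0], [0, 5, 7]), ([6, 0], [0, 6]), ([7, 0], [0, 7]), ([2, 1], [1, 2, 3]), ([3, 1], [1, 3, 7]), ([4, 1], [1, 4, 6, 7]), ([5, 1], [1, 5, 6]), ([6, 1], [1, 6]), ([7, 1], [1, 7]), ([3, 2], [2, 3, 6]), ([4, 2], [2, 4, 6]), ([5, 2], [2, 5, 7]), ([6, 2], [2, 6]), ([7, 2], [2, 7]), ([4, 3], [3, 4]), ([5, 3],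 [3, 5]), ([6, 3], [3, 6]), ([7, 3], [3, 7]), ([5, 4], [4, 5]), ([6, 4], [4, 6]), ([7, 4], [4, 7]), ([6, 5], [5, 6]), ([7, 5], [5, 7]), ([7, 6], [6, 7])]
  conjs := [((genData.getD 8 (one, one)).1, [0], [1]), ((genData.getD 8 (one, one)).1, [1], [2]), ((genData.getD 8 (one, one)).1, [2], [0, 1, 4]), ((genData.getD 8 (one, one)).1, [3], [3, 4, 5, 6, 7]), ((genData.getD 8 (one, one)).1, [4], [3, 5, 7]), ((genData.getD 8 (one, one)).1, [5], [3]), ((genData.getD 8 (one, one)).1, [6], [6]), ((genData.getD 8 (one, one)).1, [7], [7])]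
  rows := [(.ovl [0] 0 [], [0, 0, 0, 0, 0, 0, 0, 0, 0, 0, 1, 0, 0, 1]),
    (.ovl [1] 0 [], [0, 0, 0, 0, 0, 1, 0, 1, 0, 0, 0, 0, 1, 0, 0, 0, 1, 0, 0, 1, 0, 0, 0, 0, 0, 0, 0, 0, 0, 0, 0, 0, 0, 0, 0, 1]),
    (.ovl [2] 0 [], [0, 0, 0, 0, 1, 1, 1, 1, 0, 0, 0, 1, 1, 0, 0, 0, 0, 0, 0, 0, 0, 1, 0, 0, 1, 0, 0, 0, 0, 0, 1, 0, 0, 1, 1]),
    (.ovl [3] 0 [], [0, 0, 0, 0, 0, 0, 0, 0, 0, 0, 0, 0, 0, 0, 0, 0, 0, 0, 0, 0, 0, 0, 0, 0, 0, 0, 0, 0, 1]),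
    (.ovl [4] 0 [], [0, 0, 0, 0, 0, 0, 1, 1, 0, 0, 0, 0, 0, 1, 1, 0, 0, 0, 0, 0, 0, 0, 0, 0, 0, 0, 1, 0, 0, 0, 0, 1, 0, 0, 0, 1]),
    (.ovl [5] 0 [], [0, 0, 0, 0, 0, 0, 0, 1, 0, 0, 0, 0, 0, 0, 1, 0, 0, 0, 0, 0, 0, 0, 0, 0, 0, 0, 0, 1, 0, 0, 0, 0, 0, 1]),
    (.ovl [7] 0 [], [0, 0, 0, 0, 0, 0, 0, 0, 0, 0, 0, 0, 0, 0, 0, 0, 0, 0, 0, 0, 0, 0, 0, 0, 0, 0, 0, 0, 0, 1, 0, 0, 0, 0, 0, 1]),
    (.ovl [1] 1 [], [0, 0, 0, 0, 0, 0, 1, 1, 0, 0, 0, 0, 0, 0, 0, 0, 1, 1, 1, 0, 1, 0, 0, 0, 0, 0, 0, 0, 0, 0, 0, 0, 1, 1, 0, 1]),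
    (.ovl [2] 1 [], [0, 0, 0, 1, 0, 0, 1, 1, 0, 0, 0, 0, 0, 0, 0, 0, 1, 0, 0, 0, 0, 1, 1, 1, 0, 1, 0, 0, 0, 0, 0, 1]),
    (.ovl [3] 1 [], [0, 0, 0, 0, 0, 0, 0, 1, 0, 0, 0, 0, 0, 0, 0, 0, 0, 0, 0, 0, 1, 0, 0, 0, 0, 0, 1, 1, 0, 1]),
    (.ovl [4] 1 [], [0, 0, 0, 0, 0, 0, 1, 1, 0, 0, 0, 0, 0, 0, 0, 0, 0, 0, 0, 1, 1, 0, 0, 0, 0, 0, 1, 0, 0, 0, 1, 0, 1, 0, 0, 1]),
    (.ovl [5] 1 [], [0, 0, 0, 0, 0, 0, 1, 0, 0, 0, 0, 0, 0, 0, 0, 0, 0, 0, 0, 1, 0, 0, 0, 0, 0, 0, 0, 1, 0, 0, 1, 0, 0, 0, 1, 0]),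
    (.ovl [6] 1 [], [0, 0, 0, 0, 0, 0, 0, 0, 0, 0, 0, 0, 0, 0, 0, 0, 0, 0, 0, 0, 0, 0, 0, 0, 0, 0, 0, 0, 1, 0, 0, 1, 0, 1, 0, 1]),
    (.ovl [7] 1 [], [0, 0, 0, 0, 0, 0, 0, 0, 0, 0, 0, 0, 0, 0, 0, 0, 0, 0, 0, 0, 0, 0, 0, 0, 0, 0, 0, 0, 0, 1, 0, 0, 1, 0, 1]),
    (.ovl [2] 2 [], [0, 0, 0, 0, 0, 0, 1, 0, 0, 0, 0, 0, 0, 0, 0, 0, 0, 0, 0, 0, 0, 1, 1, 0, 1, 1, 0, 0, 0, 0, 0, 1]),
    (.ovl [3] 2 [], [0, 0, 0, 0, 0, 0, 1, 0, 0, 0, 0, 0, 0, 0, 0, 0, 0, 0, 0, 0, 0, 0, 0, 0, 1, 0, 1, 0, 1, 1, 0, 0, 0, 0, 0, 0]),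
    (.ovl [4] 2 [], [0, 0, 0, 0, 0, 0, 1, 0, 0, 0, 0, 0, 0, 0, 0, 0, 0, 0, 0, 0, 0, 0, 0, 0, 1, 0, 1, 0, 0, 0, 0, 1, 1, 0, 0, 0]),
    (.ovl [5] 2 [], [0, 0, 0, 0, 0, 0, 0, 1, 0, 0, 0, 0, 0, 0, 0, 0, 0, 0, 0, 0, 0, 0, 0, 0, 0, 1, 0, 1, 0, 0, 1, 0, 0, 1, 1]),
    (.ovl [6] 2 [], [0, 0, 0, 0, 0, 0, 0, 0, 0, 0, 0, 0, 0, 0, 0, 0, 0, 0, 0, 0, 0, 0, 0, 0, 0, 0, 0, 0, 1, 0, 0, 1, 0, 0, 0, 1]),
    (.ovl [1] 8 [], [0, 0, 0, 0, 0, 1, 0, 1, 0, 0, 1, 1, 1, 0, 1, 0, 0, 0, 1, 0, 0, 0, 0, 0, 0, 0, 0, 0, 0, 0, 0, 0, 0, 0, 1, 1]),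
    (.ovl [2] 8 [], [0, 0, 0, 0, 0, 0, 1, 0, 0, 0, 1, 0, 0, 0, 0, 0, 0, 1, 1, 0, 0, 0, 0, 1, 0, 0, 1, 0, 0, 1, 1, 0, 1, 1, 1, 1]),
    (.ovl [3] 8 [], [0, 0, 0, 0, 0, 0, 0, 0, 0, 0, 0, 0, 0, 0, 1, 0, 0, 0, 0, 0, 0, 0, 0, 0, 0, 0, 0, 1, 0, 0, 0, 0, 0, 0, 1]),
    (.ovl [5] 8 [], [0, 0, 0, 0, 0, 0, 0, 0, 0, 0, 0, 0, 0, 1, 0, 0, 0, 0, 0, 0, 1, 0, 0, 0, 0, 0, 0, 0, 0, 0, 0, 0, 0, 1, 1, 1]),
    (.ovl [2] 9 [], [0, 0, 0, 0, 1, 1, 0, 0, 0, 0, 1, 1, 0, 1, 1, 0, 0, 0, 0, 0, 0, 0, 1, 1, 0, 0, 0, 0, 0, 0, 1, 1, 1, 0, 1, 0]),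
    (.ovl [2] 15 [], [0, 0, 0, 1, 0, 0, 0, 1, 0, 0, 0, 0, 0, 0, 0, 0, 1, 1, 0, 1, 1, 1, 0, 0, 0, 0, 0, 0, 1, 0, 0, 0, 1, 0, 0, 0]),
    (.cnj 0 [0, 0] [3, 6], [1, 1, 0, 0, 0, 0, 1, 0, 0, 0, 0, 0, 0, 0, 0, 0, 0, 0, 0, 0, 0, 0, 0, 0, 0, 0, 0, 0, 0, 0, 0, 0, 0, 0, 0, 1, 0, 0, 0, 1, 0, 0, 1]),
    (.cnj 0 [1, 1] [3, 4, 5, 7], [0, 1, 1, 1, 0, 1, 0, 1, 0, 0, 0, 0, 0, 0, 0, 0, 0, 0, 0, 0, 0, 0, 0, 0, 0, 0, 0, 1, 0, 1, 0, 0, 0, 1, 1, 0, 0, 0, 0, 1, 1, 1, 0, 1]),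
    (.cnj 0 [2, 2] [3, 4, 6, 7], [1, 1, 1, 0, 1, 0, 1, 1, 1, 0, 0, 1, 0, 0, 0, 0, 0, 1, 1, 1, 0, 0, 0, 0, 0, 0, 0, 0, 1, 0, 0, 1, 0, 1, 1, 1, 0, 0, 0, 1, 1, 0, 1, 1]),
    (.cnj 0 [3, 3] [], [0, 0, 0, 0, 1, 1, 1, 1, 0, 0, 0, 0, 0, 0, 0, 0, 0, 0, 0, 0, 0, 0, 0, 0, 0, 0, 1, 1, 1, 1, 1, 1, 1, 1, 1, 1, 0, 0, 0, 0]),
    (.cnj 0 [4, 4] [], [0, 0, 0, 1, 1, 1, 0, 1, 0, 0, 0, 0, 0, 0, 0, 0, 0, 0, 0, 0, 0, 0, 0, 0, 0, 0, 0, 1, 0, 1, 0, 0, 0, 0, 1, 0, 0, 0, 0, 0, 0]),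
    (.cnj 0 [5, 5] [], [0, 0, 0, 1, 0, 1, 0, 0, 0, 0, 0, 0, 0, 0, 0, 0, 0, 0, 0, 0, 0, 0, 0, 0, 0, 0, 0, 0, 0, 0, 0, 0, 0, 0, 0, 0, 0, 0, 0, 0, 0, 0]),
    (.cnj 0 [1, 0] [0, 1, 5], [0, 0, 0, 0, 0, 0, 0, 0, 1, 0, 0, 0, 0, 0, 0, 1, 0, 0, 0, 0, 0, 0, 0, 0, 0, 0, 0, 0, 0, 0, 0, 0, 0, 0, 0, 0, 0, 0, 0, 0, 0, 1]),
    (.cnj 0 [2, 0] [0, 2, 4, 5], [0, 0, 0, 1, 0, 1, 0, 0, 1, 1, 0, 0, 0, 0, 0, 0, 0, 1, 1, 0, 0, 0, 0, 0, 0, 0, 0, 1, 0, 1, 1, 1, 0, 1, 0, 0, 0, 0, 0, 0, 1, 1]),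
    (.cnj 0 [4, 0] [0, 4, 6, 7], [0, 0, 0, 0, 0, 0, 0, 0, 0, 0, 0, 1, 0, 0, 0, 0, 1, 0, 1, 0, 1, 0, 0, 0, 0, 0, 0, 0, 0, 0, 0, 0, 0, 0, 1, 0, 0, 0, 0, 0, 0, 0, 1, 1]),
    (.cnj 0 [5, 0] [0, 5, 7], [0, 0, 0, 0, 0, 0, 0, 0, 0, 0, 0, 0, 1, 0, 0, 0, 1, 0, 0, 0, 0, 0, 0, 0, 0, 0, 0, 0, 0, 0, 0, 0, 0, 0, 0, 0, 0, 0, 0, 0, 0, 0, 0, 1]),
    (.cnj 0 [2, 1] [1, 2, 3], [0, 0, 0, 1, 1, 1, 1, 1, 0, 1, 0, 0, 0, 0, 0, 0, 0, 1, 1, 0, 0, 0, 1, 0, 0, 0, 0, 1, 0, 1, 0, 0, 0, 1, 0, 0, 0, 0, 0, 1])]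
  lam := [[], [], [], [1, 1, 1, 0, 0, 0, 0, 0, 1], [0, 0, 0, 0, 0, 0, 0, 0, 1, 1], [0, 0, 0, 0, 0, 0, 0, 0, 1], [0, 1, 1, 0, 0, 0, 0, 0, 1], [1, 0, 1, 0, 0, 0, 0, 0, 1, 1]]
  combos := [[], [], [], [(0, 1), (2, 1), (6, 1), (7, 1), (9, 1), (11, 1), (12, 1), (15, 1), (18, 1), (19, 1), (21, 1), (22, 1), (24, 1), (29, 1), (30, 1)], [(1, 1), (2, 1), (5, 1), (7, 1), (9, 1), (10, 1), (12, 1), (14, 1), (15, 1), (16, 1), (17, 1), (18, 1), (20, 1), (22, 1), (23, 1), (28, 1)], [(0, 1), (2, 1), (6, 1), (7, 1), (9, 1), (11, 1), (12, 1), (15, 1), (18, 1), (19, 1), (21, 1), (22, 1), (24, 1), (29, 1)], [(3, 1), (4, 1), (6, 1), (9, 1), (12, 1), (21, 1), (22, 1)], [(5, 1), (9, 1), (10, 1), (11, 1), (12, 1), (15, 1), (16, 1), (21, 1)], [], [], [(1, 1), (2, 1), (3, 1), (5, 1), (6, 1), (8, 1), (10, 1), (15, 1),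 (17, 1), (22, 1), (23, 1), (30, 1)], [(0, 1), (4, 1), (5, 1), (13, 1), (15, 1), (16, 1), (18, 1), (19, 1), (20, 1), (22, 1), (23, 1), (25, 1), (30, 1), (33, 1), (34, 1), (35, 1)], [(0, 1), (4, 1), (7, 1), (9, 1), (10, 1), (11, 1), (15, 1), (16, 1), (19, 1), (25, 1), (26, 1), (28, 1), (29, 1), (30, 1), (32, 1), (33, 1)], [(0, 1), (1, 1), (2, 1), (3, 1), (5, 1), (6, 1), (8, 1), (10, 1), (15, 1), (17, 1), (22, 1), (23, 1), (30, 1)], [(1, 1), (2, 1), (6, 1), (7, 1), (9, 1), (10, 1), (13, 1), (14, 1), (17, 1), (18, 1), (20, 1), (22, 1), (23, 1), (28, 1), (29, 1), (30, 1)], [(1, 1), (3, 1), (6, 1), (7, 1), (8, 1), (10, 1), (11, 1), (12, 1), (13, 1), (14, 1), (15, 1), (19, 1), (22, 1), (23, 1), (27, 1), (29, 1), (31, 1), (32, 1), (33, 1), (35, 1)], [(2, 1), (3, 1), (4, 1), (5, 1), (6, 1), (7, 1),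 (8, 1), (9, 1), (10, 1), (11, 1), (13, 1), (15, 1), (17, 1), (19, 1), (23, 1), (25, 1), (26, 1), (30, 1), (32, 1), (33, 1)], [(1, 1), (2, 1), (6, 1), (7, 1), (8, 1), (14, 1), (15, 1), (16, 1), (19, 1), (22, 1), (23, 1), (24, 1), (25, 1), (29, 1), (33, 1), (34, 1), (35, 1)], [(0, 1), (2, 1), (3, 1), (5, 1), (6, 1), (7, 1), (8, 1), (11, 1), (13, 1), (14, 1), (23, 1), (24, 1), (26, 1), (29, 1), (32, 1), (34, 1), (35, 1)], [(1, 1), (3, 1), (7, 1), (8, 1), (9, 1), (11, 1), (17, 1), (18, 1), (19, 1), (22, 1), (23, 1), (24, 1), (28, 1)], [(0, 1), (1, 1), (2, 1), (3, 1), (5, 1), (6, 1), (8, 1), (10, 1), (12, 1), (13, 1), (16, 1), (17, 1), (23, 1), (30, 1)], [(1, 1), (4, 1), (5, 1), (6, 1), (10, 1), (12, 1), (14, 1), (15, 1), (17, 1), (18, 1), (22, 1), (26, 1), (28, 1), (30, 1), (32, 1), (34, 1),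 (35, 1)], [(0, 1), (3, 1), (10, 1), (13, 1), (14, 1), (15, 1), (17, 1), (19, 1), (20, 1), (23, 1), (24, 1), (26, 1), (28, 1), (29, 1), (30, 1), (32, 1), (34, 1), (35, 1)], [(6, 1), (7, 1), (8, 1), (11, 1), (12, 1), (13, 1), (17, 1), (18, 1), (20, 1), (21, 1), (22, 1), (23, 1), (24, 1), (25, 1), (26, 1), (28, 1), (32, 1), (33, 1)], [(0, 1), (3, 1), (4, 1), (6, 1), (7, 1), (8, 1), (9, 1), (12, 1), (14, 1), (15, 1), (16, 1), (20, 1), (21, 1), (28, 1), (29, 1)], [(1, 1), (4, 1), (5, 1), (6, 1), (7, 1), (8, 1), (9, 1), (10, 1), (11, 1), (12, 1), (15, 1), (16, 1), (19, 1), (23, 1), (24, 1), (28, 1)], [(0, 1), (3, 1), (6, 1), (7, 1), (8, 1), (9, 1), (10, 1), (11, 1), (13, 1), (14, 1), (16, 1), (20, 1), (22, 1), (28, 1), (29, 1)], [(1, 1), (2, 1), (6, 1), (7, 1), (11, 1), (13, 1), (14, 1), (15, 1),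 (16, 1), (17, 1), (20, 1), (21, 1), (22, 1), (23, 1), (28, 1), (29, 1), (30, 1)], [(3, 1)], [(6, 1), (9, 1), (10, 1), (11, 1), (13, 1)], [(2, 1), (4, 1), (8, 1), (9, 1), (10, 1), (12, 1), (13, 1), (14, 1), (19, 1), (20, 1), (22, 1), (24, 1), (29, 1), (30, 1)], [(3, 1), (9, 1), (10, 1), (11, 1), (13, 1), (18, 1)], [(6, 1), (15, 1), (16, 1), (18, 1)], [(12, 1), (18, 1)], [(9, 1), (10, 1), (11, 1), (15, 1), (16, 1), (18, 1)], [(9, 1), (10, 1), (11, 1), (13, 1)]]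

end CfsgLib.KnownB.Sz8
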