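import Cfsg.Agent.Lib.KnownA.Suzuki.Basic

/-!
The field of order `8` on numbers below `8`, and `4 × 4` matrices over it.
-/

set_option autoImplicit false

namespace CfsgLib.KnownB.Sz8

open Matrix

/-- a number from three bits -/
def pk3 (a b c : ℕ) : ℕ := a % 2 + 2 * (b % 2) + 4 * (c % 2)

/-- sum -/
def addK (a b : ℕ) : ℕ := pk3 (a + b) (a / 2 + b / 2) (a / 4 + b / 4)

/-- product of three bits by three bits modulo `x³ + x + 1` -/
def mulB (a0 a1 a2 b0 b1 b2 : ℕ) : ℕ :=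
  pk3 (a0 * b0 + (a1 * b2 + a2 * b1)) (a0 * b1 + a1 * b0 + (a1 * b2 + a2 * b1) + a2 * b2)
    (a0 * b2 + a1 * b1 + a2 * b0 + a2 * b2)

/-- product -/
def mulK (a b : ℕ) : ℕ := mulB (a % 2) (a / 2 % 2) (a / 4 % 2) (b % 2) (b / 2 % 2) (b / 4 % 2)

/-- power -/
def powK (a : ℕ) : ℕ → ℕ
  | 0 => 1
  | n + 1 => mulK (powK a n) a

variable {F : Type*} [Field F]

/-- a root of `x³ + x + 1` in characteristic two -/
structure Root (F : Type*) [Field F] where
  x : F
  two : (2 : F) = 0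
  cube : x ^ 3 = x + 1

theorem exists_root [Fintype F] (hF : Fintype.card F = 8) : Nonempty (Root F) := by
  classical
  have h2 : (2 : F) = 0 := by
    have h := FiniteField.cast_card_eq_zero F
    rw [hF, show ((8 : ℕ) : F) = 2 ^ 3 by norm_num] at h
    exact (pow_eq_zero_iff (by omega)).1 h
  obtain ⟨c, hc⟩ : ∃ c : F, c ∉ ({0, 1} : Finset F) := by
    by_contra h
    push_neg at h
    have := Finset.card_le_card (s := Finset.univ) (t := ({0, 1} : Finset F)) fun c _ => h c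
    rw [Finset.card_univ, hF] at this
    exact absurd (this.trans Finset.card_le_two) (by norm_num)
  simp only [Finset.mem_insert, Finset.mem_singleton, not_or] at hc
  have h7 : c ^ 7 = 1 := by
    have := FiniteField.pow_card_sub_one_eq_one c hc.1
    rwa [hF] at this
  have key : (c - 1) * ((c ^ 3 + c + 1) * (c ^ 3 + c ^ 2 + 1)) = 0 := by
    linear_combination h7 + (c ^ 4 - c ^ 3) * h2
  rcases mul_eq_zero.1 ((mul_eq_zero.1 key).resolve_left (sub_ne_zero.2 hc.2)) with h | h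
  · exact ⟨⟨c, h2, by linear_combination h - (c + 1) * h2⟩⟩
  · refine ⟨⟨c⁻¹, h2, ?_⟩⟩
    have hi : c * c⁻¹ = 1 := mul_inv_cancel₀ hc.1
    have h' : 1 + c⁻¹ + c⁻¹ ^ 3 = 0 := by
      have e := congrArg (· * c⁻¹ ^ 3) h
      simp only [add_mul, zero_mul, one_mul] at e
      rw [← mul_pow, hi, one_pow, show c ^ 2 * c⁻¹ ^ 3 = (c * c⁻¹) ^ 2 * c⁻¹ by ring, hi, one_pow,
        one_mul] at e
      exact e
    linear_combination h' - (c⁻¹ + 1) * h2

variable (R : Root F)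

/-- the element of a number -/
def phi (n : ℕ) : F :=
  ((n % 2 : ℕ) : F) + ((n / 2 % 2 : ℕ) : F) * R.x + ((n / 4 % 2 : ℕ) : F) * R.x ^ 2

include R in
theorem cast_mod_two (n : ℕ) : ((n % 2 : ℕ) : F) = (n : F) := by
  have h : ((n % 2 : ℕ) : F) + ((2 : ℕ) : F) * ((n / 2 : ℕ) : F) = n := by
    rw [← Nat.cast_mul, ← Nat.cast_add, Nat.mod_add_div]
  rwa [Nat.cast_two, R.two, zero_mul, add_zero] at h

theorem phi_pk3 (a b c : ℕ) : phi R (pk3 a b c) = (a : F) + b * R.x + c * R.x ^ 2 := by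
  have e1 : pk3 a b c % 2 = a % 2 := by unfold pk3; omega
  have e2 : pk3 a b c / 2 % 2 = b % 2 := by unfold pk3; omega
  have e3 : pk3 a b c / 4 % 2 = c % 2 := by unfold pk3; omega
  rw [phi, e1, e2, e3, cast_mod_two R, cast_mod_two R, cast_mod_two R]

theorem phi_addK (a b : ℕ) : phi R (addK a b) = phi R a + phi R b := by
  rw [addK, phi_pk3, phi, phi, cast_mod_two R, cast_mod_two R, cast_mod_two R, cast_mod_two R,
    cast_mod_two R, cast_mod_two R]
  push_cast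
  ring

theorem phi_mulK (a b : ℕ) : phi R (mulK a b) = phi R a * phi R b := by
  rw [mulK, mulB, phi_pk3, phi, phi]
  push_cast
  set a0 := ((a % 2 : ℕ) : F); set a1 := ((a / 2 % 2 : ℕ) : F); set a2 := ((a / 4 % 2 : ℕ) : F)
  set b0 := ((b % 2 : ℕ) : F); set b1 := ((b / 2 % 2 : ℕ) : F); set b2 := ((b / 4 % 2 : ℕ) : F)
  linear_combination -(a1 * b2 + a2 * b1 + a2 * b2 * R.x) * R.cube

theorem phi_powK (a : ℕ) : ∀ n, phi R (powK a n) = phi R a ^ n
  | 0 => by simp [powK, phi]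
  | n + 1 => by rw [powK, phi_mulK, phi_powK a n, pow_succ]

theorem phi_zero : phi R 0 = 0 := by simp [phi]

theorem phi_one : phi R 1 = 1 := by simp [phi]

theorem x_ne_zero : R.x ≠ 0 := fun h => by
  have := R.cube
  simp [h] at this

theorem phi_two : phi R 2 = R.x := by simp [phi]

theorem phi_eq_zero : ∀ n < 8, phi R n = 0 → n = 0 := by
  have h2 := R.two
  have hc := R.cube
  have hx := x_ne_zero R
  have hx1 : R.x ≠ 1 := fun h => by
    rw [h] at hc
    exact one_ne_zero (α := F) (by linear_combination -hc)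
  intro n hn
  interval_cases n <;> simp [phi] <;> intro h
  · exact hx h
  · exact hx1 (by linear_combination h - h2)
  · exact hx h
  · exact one_ne_zero (α := F) (by linear_combination R.x * h - hc - R.x * h2)
  · rcases mul_eq_zero.1 (show R.x * (1 + R.x) = 0 by linear_combination h) with h' | h'
    · exact hx h'
    · exact hx1 (by linear_combination h' - h2)
  · exact hx (by linear_combination R.x * h - hc - h)

theorem phi_eq_iff {a b : ℕ} : phi R a = phi R b ↔ a % 8 = b % 8 := by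
  have hmod : ∀ n, phi R n = phi R (n % 8) := fun n => by
    rw [phi, phi, show n % 8 % 2 = n % 2 by omega, show n % 8 / 2 % 2 = n / 2 % 2 by omega,
      show n % 8 / 4 % 2 = n / 4 % 2 by omega]
  constructor
  · intro h
    have h' : phi R (addK a b) = 0 := by
      rw [phi_addK, h]; linear_combination (phi R b) * R.two
    have := phi_eq_zero R _ (by unfold addK pk3; omega) h'
    unfold addK pk3 at this
    have t1 : (a + b) % 2 = 0 := by omega
    have t2 : (a / 2 + b / 2) % 2 = 0 := by omega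
    have t3 : (a / 4 + b / 4) % 2 = 0 := by omega
    have u1 : a % 2 = b % 2 := by clear this h' h t2 t3; omega
    have u2 : a / 2 % 2 = b / 2 % 2 := by clear this h' h t1 t3 u1; omega
    have u3 : a / 4 % 2 = b / 4 % 2 := by clear this h' h t1 t2 u1 u2; omega
    clear this h' h t1 t2 t3
    omega
  · intro h; rw [hmod a, h, ← hmod]

theorem exists_phi_eq [Fintype F] (hF : Fintype.card F = 8) (c : F) : ∃ n < 8, phi R n = c := by
  have hi : Function.Injective fun n : Fin 8 => phi R n := fun m n h => by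
    have := (phi_eq_iff R).1 h
    exact Fin.ext (by omega)
  obtain ⟨n, hn⟩ := (Fintype.bijective_iff_injective_and_card _).2
    ⟨hi, by rw [Fintype.card_fin, hF]⟩ |>.2 c
  exact ⟨n, n.2, hn⟩

/-- a row -/
structure R4 where
  c0 : ℕ
  c1 : ℕ
  c2 : ℕ
  c3 : ℕ

/-- a matrix -/
structure M4 where
  r0 : R4
  r1 : R4
  r2 : R4
  r3 : R4

/-- row times matrix -/
def rowMul4 (v : R4) (y : M4) : R4 :=
  ⟨addK (addK (mulK v.c0 y.r0.c0) (mulK v.c1 y.r1.c0)) (addK (mulK v.c2 y.r2.c0) (mulK v.c3 y.r3.c0)),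
   addK (addK (mulK v.c0 y.r0.c1) (mulK v.c1 y.r1.c1)) (addK (mulK v.c2 y.r2.c1) (mulK v.c3 y.r3.c1)),
   addK (addK (mulK v.c0 y.r0.c2) (mulK v.c1 y.r1.c2)) (addK (mulK v.c2 y.r2.c2) (mulK v.c3 y.r3.c2)),
   addK (addK (mulK v.c0 y.r0.c3) (mulK v.c1 y.r1.c3)) (addK (mulK v.c2 y.r2.c3) (mulK v.c3 y.r3.c3))⟩

/-- product -/
def mul4 (x y : M4) : M4 := ⟨rowMul4 x.r0 y, rowMul4 x.r1 y, rowMul4 x.r2 y, rowMul4 x.r3 y⟩

/-- identity -/
def one4 : M4 := ⟨⟨1, 0, 0, 0⟩, ⟨0, 1, 0, 0⟩, ⟨0, 0, 1, 0⟩, ⟨0, 0, 0, 1⟩⟩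

/-- equality of rows modulo `8` -/
def eqR (v w : R4) : Bool :=
  Nat.beq (v.c0 % 8) (w.c0 % 8) && Nat.beq (v.c1 % 8) (w.c1 % 8) && Nat.beq (v.c2 % 8) (w.c2 % 8) &&
    Nat.beq (v.c3 % 8) (w.c3 % 8)

/-- equality -/
def eq4 (x y : M4) : Bool := eqR x.r0 y.r0 && eqR x.r1 y.r1 && eqR x.r2 y.r2 && eqR x.r3 y.r3

/-- the row of a code -/
def decR (v : R4) : Fin 4 → F := ![phi R v.c0, phi R v.c1, phi R v.c2, phi R v.c3]

/-- the matrix of a code -/
def dec4 (x : M4) : Matrix (Fin 4) (Fin 4) F :=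
  ![decR R x.r0, decR R x.r1, decR R x.r2, decR R x.r3]

theorem dec4_mul (x y : M4) : dec4 R (mul4 x y) = dec4 R x * dec4 R y := by
  ext i j
  rw [Matrix.mul_apply, Fin.sum_univ_four]
  fin_cases i <;> fin_cases j <;>
    simp [dec4, decR, mul4, rowMul4, phi_addK, phi_mulK, add_assoc]

theorem dec4_one : dec4 R one4 = 1 := by
  ext i j
  fin_cases i <;> fin_cases j <;> simp [dec4, decR, one4, phi_zero, phi_one]

theorem eq4_iff {x y : M4} : eq4 x y = true ↔ dec4 R x = dec4 R y := by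
  have hr : ∀ v w : R4, eqR v w = true ↔ decR R v = decR R w := fun v w => by
    simp [eqR, decR, phi_eq_iff R, Nat.beq_eq, and_assoc]
  simp only [eq4, Bool.and_eq_true, hr, dec4, and_assoc]
  constructor
  · rintro ⟨a, b, c, d⟩; rw [a, b, c, d]
  · exact fun h => ⟨congrFun h 0, congrFun h 1, congrFun h 2, congrFun h 3⟩

/-- code of `uMat 4 a b` -/
def uK (a b : ℕ) : M4 :=
  ⟨⟨1, 0, 0, 0⟩, ⟨a, 1, 0, 0⟩, ⟨b, powK a 4, 1, 0⟩,
   ⟨addK (addK (powK a 6) (mulK a b)) (powK b 4), addK b (powK a 5), a, 1⟩⟩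

theorem dec4_uK (a b : ℕ) :
    dec4 R (uK a b) = CfsgLib.KnownA.Suzuki.uMat 4 (phi R a) (phi R b) := by
  ext i j
  fin_cases i <;> fin_cases j <;>
    simp [dec4, decR, uK, CfsgLib.KnownA.Suzuki.uMat, CfsgLib.KnownA.Suzuki.fv, phi_zero, phi_one,
      phi_addK, phi_mulK, phi_powK]

/-- code of `hMat 4 t` -/
def hK (t : ℕ) : M4 :=
  ⟨⟨powK t 5, 0, 0, 0⟩, ⟨0, t, 0, 0⟩, ⟨0, 0, powK t 6, 0⟩, ⟨0, 0, 0, powK t 2⟩⟩

theorem dec4_hK [Fintype F] (hF : Fintype.card F = 8) {t : ℕ} (ht : phi R t ≠ 0) :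
    dec4 R (hK t) = CfsgLib.KnownA.Suzuki.hMat 4 (phi R t) := by
  have h7 : phi R t ^ 7 = 1 := by
    have := FiniteField.pow_card_sub_one_eq_one _ ht
    rwa [hF] at this
  have e6 : phi R t ^ 6 = (phi R t)⁻¹ := eq_inv_of_mul_eq_one_left (by rw [← pow_succ, h7])
  have e2 : phi R t ^ 2 = (phi R t ^ 5)⁻¹ := eq_inv_of_mul_eq_one_left (by rw [← pow_add, h7])
  ext i j
  fin_cases i <;> fin_cases j <;>
    simp [dec4, decR, hK, CfsgLib.KnownA.Suzuki.hMat, phi_zero, phi_powK, e6, e2]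

/-- code of `wMat` -/
def wK : M4 := ⟨⟨0, 0, 0, 1⟩, ⟨0, 0, 1, 0⟩, ⟨0, 1, 0, 0⟩, ⟨1, 0, 0, 0⟩⟩

theorem dec4_wK : dec4 R wK = CfsgLib.KnownA.Suzuki.wMat F := by
  ext i j
  fin_cases i <;> fin_cases j <;>
    simp [dec4, decR, wK, CfsgLib.KnownA.Suzuki.wMat, phi_zero, phi_one]

end CfsgLib.KnownB.Sz8
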