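import Cfsg.Agent.Lib.KnownB.Sz8.Cert
import Cfsg.Agent.Lib.Schur.Lift

/-!
The Schur multiplier of `Sz(8)` is a four-group.
-/

set_option autoImplicit false
set_option maxRecDepth 100000

namespace CfsgLib.KnownB.Sz8

open CfsgLib.KnownA.Suzuki CfsgLib.KnownB.Mult
open scoped commutatorElement

variable {F : Type*} [Field F] [Fintype F] (hF : Fintype.card F = 8) (R : Root F)

/-- the projection of the covering group -/
def coverMap : Cover F R →* Cfsg.Lie.Sz F 4 := (MonoidHom.fst _ _).comp (Cover F R).subtype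

/-- generators of the Sylow subgroup -/
noncomputable def sg (j : ℕ) : Cover F R := cert2.gen (code hF R) j

/-- the Sylow subgroup -/
noncomputable def base : Subgroup (Cover F R) := tail (sg hF R) 8 0

/-- the torus element -/
noncomputable def tor : Cover F R := (exists_gen hF R 8 (by norm_num)).choose

/-- the Weyl element -/
noncomputable def wel : Cover F R := (exists_gen hF R 9 (by norm_num)).choose

theorem rep_tor : RepA R ((tor hF R : Cover F R) : Amb F) tC :=
  (exists_gen hF R 8 (by norm_num)).choose_spec.1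

theorem rep_wel : RepA R ((wel hF R : Cover F R) : Amb F) wC :=
  (exists_gen hF R 9 (by norm_num)).choose_spec.1

omit [Fintype F] in
theorem eq_of_check {g h : Cover F R} {x y : C8} (hg : RepA R (g : Amb F) x)
    (hh : RepA R (h : Amb F) y) (e : eqC x y = true) : g = h :=
  Subtype.ext ((eqC_iff R hg hh).1 e)

theorem rep_pow {g : Cover F R} {x : C8} (hg : RepA R (g : Amb F) x) :
    ∀ m, RepA R ((g ^ m : Cover F R) : Amb F) (Cert.powC (code hF R) x m) :=
  Cert.rep_powC (K := code hF R) hg

theorem powC_tC : ∀ m, Cert.powC (code hF R) tC m = powT m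
  | 0 => rfl
  | m + 1 => by
    show mulC tC (Cert.powC (code hF R) tC m) = mulC tC (powT m)
    rw [powC_tC m]

theorem rep_tor_pow (m : ℕ) : RepA R ((tor hF R ^ m : Cover F R) : Amb F) (powT m) := by
  rw [← powC_tC hF R]
  exact rep_pow hF R (rep_tor hF R) m

theorem rep_word (w : List ℕ) : RepA R ((P (sg hF R) w : Cover F R) : Amb F) (evw w) :=
  Cert.rep_ev (valid hF R).core w

theorem sg_eq (j : ℕ) (hj : j < 8) (g : Cover F R) (hg : RepA R (g : Amb F) (gq j).1) :
    sg hF R j = g := by
  have h := List.all_eq_true.1 src_ok j (List.mem_range.2 hj)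
  rw [Bool.and_eq_true] at h
  exact eq_of_check R (Cert.rep_gen (valid hF R).core j) hg h.1

theorem sg_mem (j : ℕ) : sg hF R j ∈ base hF R := by
  by_cases hj : j < 8
  · exact mem_tail _ (Nat.zero_le _) hj
  · have h : sg hF R j = 1 := by
      refine eq_of_check R (Cert.rep_gen (valid hF R).core j) (repA_one R) ?_
      show eqC (cert2.σ.getD j one) one = true
      rw [List.getD_eq_default _ _ (by rw [gen_ok.1]; omega)]
      decide +kernel
    rw [h]
    exact one_mem _

theorem word_mem (w : List ℕ) : P (sg hF R) w ∈ base hF R := by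
  refine list_prod_mem fun g hg => ?_
  obtain ⟨j, -, rfl⟩ := List.mem_map.1 hg
  exact sg_mem hF R j

theorem exists_code {u : Cover F R} (hu : u ∈ base hF R) :
    ∃ e ∈ elemsC 8, RepA R (u : Amb F) e := by
  haveI : Finite (Amb F) := inferInstance
  obtain ⟨e, he, hr⟩ := Cert.exists_elem (valid hF R).core 8 0 rfl u hu
  exact ⟨e, elemsC_eq hF R 8 ▸ he, hr⟩

theorem tor_mul_base {u : Cover F R} (hu : u ∈ base hF R) (m : ℕ) :
    ∃ v ∈ base hF R, tor hF R ^ m * u = v * tor hF R ^ m := by
  have hle : base hF R ≤ (base hF R).comap (MulAut.conj (tor hF R)).toMonoidHom := by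
    rw [base, tail, Subgroup.closure_le]
    rintro _ ⟨j, ⟨-, hj⟩, rfl⟩
    have h1 := Cert.cel_rel (valid hF R).core (k := j) (by rw [gen_ok.2.2]; exact hj)
    have h2 : cert2.cel (code hF R) j = tor hF R := by
      refine eq_of_check R (Cert.rep_cel (valid hF R).core j) (rep_tor hF R) ?_
      show eqC (cert2.conjs.getD j (one, [], [])).1 tC = true
      rw [List.getD_eq_getElem _ _ (by rw [gen_ok.2.2]; exact hj)]
      exact List.all_eq_true.1 gen_ok.2.1 _ (List.getElem_mem _)
    have h3 : cert2.src (code hF R) j = [j] := by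
      have h := List.all_eq_true.1 src_ok j (List.mem_range.2 hj)
      rw [Bool.and_eq_true] at h
      exact eqW_iff.1 h.2
    rw [h2, h3, P_cons, P_nil, mul_one] at h1
    show tor hF R * sg hF R j * (tor hF R)⁻¹ ∈ base hF R
    rw [sg, h1, mul_inv_cancel_right]
    exact word_mem hF R _
  induction m generalizing u with
  | zero => exact ⟨u, hu, by simp⟩
  | succ m ih =>
    obtain ⟨v, hv, he⟩ := ih (hle hu)
    refine ⟨v, hv, ?_⟩
    simp only [MulEquiv.coe_toMonoidHom, MulAut.conj_apply] at he
    rw [pow_succ, ← mul_assoc v, ← he]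
    group

theorem tor_seven : tor hF R ^ 7 = 1 := by
  have h := torus_check
  rw [Bool.and_eq_true] at h
  exact eq_of_check R (rep_tor_pow hF R 7) (repA_one R) h.1

theorem tor_wel : tor hF R * wel hF R = wel hF R * tor hF R ^ 6 := by
  have h := torus_check
  rw [Bool.and_eq_true] at h
  have e : wel hF R * tor hF R = tor hF R ^ 6 * wel hF R :=
    eq_of_check R ((rep_wel hF R).mul R (rep_tor hF R)) ((rep_tor_pow hF R 6).mul R (rep_wel hF R)) h.2
  have it : ∀ m, wel hF R * tor hF R ^ m = tor hF R ^ (6 * m) * wel hF R := by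
    intro m
    induction m with
    | zero => simp
    | succ m ih =>
      rw [pow_succ, ← mul_assoc, ih, mul_assoc, e, ← mul_assoc, ← pow_add, Nat.mul_succ]
  rw [it, show 6 * 6 = 1 + 7 * 5 from rfl, pow_add, pow_mul, tor_seven, one_pow, mul_one, pow_one]

/-- elements in Bruhat form -/
def IsForm (g : Cover F R) : Prop :=
  (∃ u ∈ base hF R, ∃ k, g = u * tor hF R ^ k) ∨
    ∃ u ∈ base hF R, ∃ v ∈ base hF R, ∃ k, g = u * wel hF R * v * tor hF R ^ k

theorem base_mul_form {u g : Cover F R} (hu : u ∈ base hF R) (hg : IsForm hF R g) :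
    IsForm hF R (u * g) := by
  rcases hg with ⟨a, ha, k, rfl⟩ | ⟨a, ha, b, hb, k, rfl⟩
  · exact Or.inl ⟨_, mul_mem hu ha, k, (mul_assoc _ _ _).symm⟩
  · exact Or.inr ⟨_, mul_mem hu ha, b, hb, k, by simp only [mul_assoc]⟩

theorem tor_mul_form {g : Cover F R} (hg : IsForm hF R g) : IsForm hF R (tor hF R * g) := by
  rcases hg with ⟨a, ha, k, rfl⟩ | ⟨a, ha, b, hb, k, rfl⟩
  · obtain ⟨a', ha', e⟩ := tor_mul_base hF R ha 1
    rw [pow_one] at e
    exact Or.inl ⟨a', ha', k + 1, by rw [← mul_assoc, e, pow_succ', mul_assoc]⟩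
  · obtain ⟨a', ha', e⟩ := tor_mul_base hF R ha 1
    obtain ⟨b', hb', e'⟩ := tor_mul_base hF R hb 6
    rw [pow_one] at e
    refine Or.inr ⟨a', ha', b', hb', 6 + k, ?_⟩
    calc tor hF R * (a * wel hF R * b * tor hF R ^ k)
        = (tor hF R * a) * (wel hF R * (b * tor hF R ^ k)) := by simp only [mul_assoc]
      _ = a' * (tor hF R * wel hF R) * (b * tor hF R ^ k) := by rw [e]; simp only [mul_assoc]
      _ = a' * wel hF R * ((tor hF R ^ 6 * b) * tor hF R ^ k) := by
          rw [tor_wel]; simp only [mul_assoc]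
      _ = _ := by rw [e', pow_add]; simp only [mul_assoc]

theorem wel_base_wel {u : Cover F R} (hu : u ∈ base hF R) :
    IsForm hF R (wel hF R * u * wel hF R) := by
  obtain ⟨e, he, hr⟩ := exists_code hF R hu
  obtain ⟨i, hi, rfl⟩ := List.getElem_of_mem he
  obtain ⟨hall, hlen⟩ := bru_check
  have hi' : i < ((elemsC 8).zip bru).length := by
    rw [List.length_zip, hlen, min_self]; exact hi
  have h := List.all_eq_true.1 hall _ (List.getElem_mem hi')
  rw [List.getElem_zip] at h
  have hl : RepA R ((wel hF R * u * wel hF R : Cover F R) : Amb F)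
      (mulC (mulC wC (elemsC 8)[i]) wC) := ((rep_wel hF R).mul R hr).mul R (rep_wel hF R)
  generalize bru[i]'(by rw [hlen]; exact hi) = q at h
  obtain ⟨_ | ⟨a, b, k⟩, w⟩ := q
  · refine Or.inl ⟨_, word_mem hF R w, 0, ?_⟩
    rw [pow_zero, mul_one]
    exact eq_of_check R hl (rep_word hF R w) h
  · exact Or.inr ⟨_, word_mem hF R a, _, word_mem hF R b, k,
      eq_of_check R hl ((((rep_word hF R a).mul R (rep_wel hF R)).mul R (rep_word hF R b)).mul R
        (rep_tor_pow hF R k)) h⟩

theorem form_mul_pow {g : Cover F R} (hg : IsForm hF R g) {v : Cover F R} (hv : v ∈ base hF R) (m : ℕ) :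
    IsForm hF R (g * v * tor hF R ^ m) := by
  rcases hg with ⟨a, ha, k, rfl⟩ | ⟨a, ha, b, hb, k, rfl⟩
  · obtain ⟨v', hv', e⟩ := tor_mul_base hF R hv k
    refine Or.inl ⟨_, mul_mem ha hv', k + m, ?_⟩
    rw [mul_assoc a, e, pow_add]
    simp only [mul_assoc]
  · obtain ⟨v', hv', e⟩ := tor_mul_base hF R hv k
    refine Or.inr ⟨a, ha, _, mul_mem hb hv', k + m, ?_⟩
    rw [mul_assoc (a * wel hF R * b), e, pow_add]
    simp only [mul_assoc]

theorem wel_mul_form {g : Cover F R} (hg : IsForm hF R g) : IsForm hF R (wel hF R * g) := by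
  rcases hg with ⟨a, ha, k, rfl⟩ | ⟨a, ha, b, hb, k, rfl⟩
  · exact Or.inr ⟨1, one_mem _, a, ha, k, by simp only [one_mul, mul_assoc]⟩
  · have := form_mul_pow hF R (wel_base_wel hF R ha) hb k
    simpa only [mul_assoc] using this

include hF in
theorem isForm_all (g : Cover F R) : IsForm hF R g := by
  obtain ⟨g, hg⟩ := g
  have hg' : g ∈ Submonoid.closure (genSet R) := by
    rwa [← Subgroup.closure_toSubmonoid_of_finite]
  induction hg' using Submonoid.closure_induction_left with
  | one => exact Or.inl ⟨1, one_mem _, 0, by rw [pow_zero, mul_one]; rfl⟩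
  | mul_left x hx y hy ih =>
    have hy' : y ∈ Cover F R := by
      rw [← Subgroup.mem_toSubmonoid, Cover, Subgroup.closure_toSubmonoid_of_finite]; exact hy
    obtain ⟨k, hk, hr⟩ := hx
    have hx' : x ∈ Cover F R := Subgroup.subset_closure ⟨k, hk, hr⟩
    rw [show (⟨x * y, hg⟩ : Cover F R) = ⟨x, hx'⟩ * ⟨y, hy'⟩ from rfl]
    rcases (show k < 8 ∨ k = 8 ∨ k = 9 by omega) with h | rfl | rfl
    · rw [← sg_eq hF R k h ⟨x, hx'⟩ hr]
      exact base_mul_form hF R (sg_mem hF R k) (ih hy')
    · have : (⟨x, hx'⟩ : Cover F R) = tor hF R :=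
        Subtype.ext ((eqC_iff R hr (rep_tor hF R)).1 (by decide +kernel))
      rw [this]
      exact tor_mul_form hF R (ih hy')
    · have : (⟨x, hx'⟩ : Cover F R) = wel hF R :=
        Subtype.ext ((eqC_iff R hr (rep_wel hF R)).1 (by decide +kernel))
      rw [this]
      exact wel_mul_form hF R (ih hy')

theorem base_le_borel {u : Cover F R} (hu : u ∈ base hF R) :
    coverMap R u ∈ borel (titsField8 hF) := by
  have hle : base hF R ≤ (borel (titsField8 hF)).comap (coverMap R) := by
    rw [base, tail, Subgroup.closure_le]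
    rintro _ ⟨j, ⟨-, hj⟩, rfl⟩
    obtain ⟨g, hg, h1⟩ := exists_gen hF R j (by omega)
    rw [if_pos hj] at h1
    rw [SetLike.mem_coe, Subgroup.mem_comap, sg_eq hF R j hj g hg]
    show (g : Amb F).1 ∈ _
    rw [h1]
    exact su_mem_borel _ _ _
  exact hle hu

theorem tor_mem_borel : coverMap R (tor hF R) ∈ borel (titsField8 hF) := by
  rw [show coverMap R (tor hF R) = _ from (exists_gen hF R 8 (by norm_num)).choose_spec.2]
  split_ifs
  all_goals
    first
      | exact su_mem_borel _ _ _
      | exact sh_mem_borel _ _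
      | omega

theorem coverMap_wel : coverMap R (wel hF R) = sw (titsField8 hF) := by
  rw [show coverMap R (wel hF R) = _ from (exists_gen hF R 9 (by norm_num)).choose_spec.2]
  split_ifs
  all_goals
    first
      | rfl
      | omega

include hF in
theorem coverMap_surjective : Function.Surjective (coverMap R) := by
  intro s
  obtain ⟨⟨p, ⟨a, b⟩, t⟩, rfl⟩ := normalForm_surjective (titsField8 hF) s
  have hu : ∀ a b : F, su (titsField8 hF) a b ∈ (coverMap R).range := by
    intro a b
    obtain ⟨m, hm, rfl⟩ := exists_phi_eq R hF a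
    obtain ⟨n, hn, rfl⟩ := exists_phi_eq R hF b
    have h := List.all_eq_true.1 (List.all_eq_true.1 unip_check m (List.mem_range.2 hm)) n
      (List.mem_range.2 hn)
    refine ⟨P (sg hF R) (uWords.getD (8 * m + n) []), mat_ext ?_⟩
    exact (rep_word hF R _).1.trans (((eq4_iff R).1 h).trans (dec4_uK R m n))
  have ht : sh (titsField8 hF) t ∈ (coverMap R).range := by
    obtain ⟨m, hm, hm'⟩ := exists_phi_eq R hF (t : F)
    have hm0 : m ≠ 0 := fun h => t.ne_zero (by rw [← hm', h, phi_zero])
    have h := List.all_eq_true.1 tor_check (m - 1) (List.mem_range.2 (by omega))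
    rw [Nat.sub_add_cancel (Nat.pos_of_ne_zero hm0)] at h
    refine ⟨tor hF R ^ tExp.getD (m - 1) 0, mat_ext ?_⟩
    refine (rep_tor_pow hF R _).1.trans (((eq4_iff R).1 h).trans ?_)
    rw [dec4_hK R hF (by rw [hm']; exact t.ne_zero), hm']
    rfl
  have hr : rep (titsField8 hF) p ∈ (coverMap R).range := by
    rcases p with _ | ⟨c, d⟩
    · exact one_mem _
    · exact mul_mem (hu c d) ⟨_, coverMap_wel hF R⟩
  exact mul_mem hr (mul_mem (hu a b) ht)

include hF in
theorem ker_code {g : Cover F R} (hg : coverMap R g = 1) :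
    ∃ z ∈ zC, RepA R (g : Amb F) z := by
  rcases isForm_all hF R g with ⟨u, hu, k, rfl⟩ | ⟨u, hu, v, hv, k, rfl⟩
  · obtain ⟨e, he, hr⟩ := exists_code hF R hu
    have hk7 : tor hF R ^ k = tor hF R ^ (k % 7) := by
      conv_lhs => rw [← Nat.div_add_mod k 7, pow_add, pow_mul, tor_seven, one_pow, one_mul]
    have hc := (List.all_eq_true.1 (List.all_eq_true.1 kernel_check e he) (k % 7)
      (List.mem_range.2 (Nat.mod_lt _ (by norm_num))))
    have hrep : RepA R ((u * tor hF R ^ k : Cover F R) : Amb F) (mulC e (powT (k % 7))) := by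
      rw [hk7]; exact hr.mul R (rep_tor_pow hF R _)
    simp only [Bool.or_eq_true, Bool.not_eq_true', List.any_eq_true] at hc
    rcases hc with hc | ⟨z, hz, hz'⟩
    · exfalso
      rw [← Bool.not_eq_true, eq4_iff R, ← hrep.1, dec4_one] at hc
      exact hc ((congrArg mat hg).trans mat_one)
    · refine ⟨z, hz, hrep.of_eqC R ?_⟩
      simp only [eqC, Bool.and_eq_true, eq4_iff R, eq8_iff] at hz' ⊢
      exact ⟨⟨hz'.1.1.symm, hz'.1.2.symm⟩, hz'.2.symm⟩
  · exfalso
    refine sw_notMem_borel (titsField8 hF) ?_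
    have h1 : coverMap R u * sw (titsField8 hF) * coverMap R v * coverMap R (tor hF R) ^ k = 1 := by
      rw [← coverMap_wel hF R, ← map_pow, ← map_mul, ← map_mul, ← map_mul]
      exact hg
    have h2 : sw (titsField8 hF) =
        (coverMap R u)⁻¹ * (coverMap R (tor hF R) ^ k)⁻¹ * (coverMap R v)⁻¹ := by
      rw [← mul_one (coverMap R u)⁻¹, ← h1]; group
    rw [h2]
    exact mul_mem (mul_mem (inv_mem (base_le_borel hF R hu))
      (inv_mem (pow_mem (tor_mem_borel hF R) k))) (inv_mem (base_le_borel hF R hv))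

/-- the kernel elements -/
noncomputable def zel (i : ℕ) : Cover F R := P (sg hF R) (zWords.getD i [])

theorem rep_zel (i : ℕ) (hi : i < 4) : RepA R ((zel hF R i : Cover F R) : Amb F) (zC.getD i one) := by
  have hl : zWords.length = 4 := rfl
  rw [zC, List.getD_eq_getElem _ _ (by rw [List.length_map, hl]; exact hi), List.getElem_map,
    ← List.getD_eq_getElem _ [] (by rw [hl]; exact hi)]
  exact rep_word hF R _

include hF in
theorem zel_checks (i : ℕ) (hi : i < 4) :
    coverMap R (zel hF R i) = 1 ∧ zel hF R i ∈ Subgroup.center (Cover F R) := by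
  have hz : zC.getD i one ∈ zC := by
    rw [List.getD_eq_getElem _ _ (show i < zC.length from hi)]
    exact List.getElem_mem _
  have h := List.all_eq_true.1 central_check _ hz
  simp only [List.all_eq_true, List.mem_range, Bool.and_eq_true] at h
  refine ⟨mat_ext ?_, Subgroup.mem_center_iff.2 fun g => ?_⟩
  · rw [mat_one]
    exact (rep_zel hF R i hi).1.trans (((eq4_iff R).1 (h 0 (by norm_num)).2).trans (dec4_one R))
  · obtain ⟨g, hg⟩ := g
    refine Subtype.ext ?_
    show g * (zel hF R i : Amb F) = (zel hF R i : Amb F) * g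
    induction hg using Subgroup.closure_induction with
    | mem x hx =>
      obtain ⟨k, hk, hr⟩ := hx
      exact ((eqC_iff R ((rep_zel hF R i hi).mul R hr) (hr.mul R (rep_zel hF R i hi))).1 (h k hk).1).symm
    | one => rw [one_mul, mul_one]
    | mul x y _ _ hx hy => exact Commute.mul_left hx hy
    | inv x _ hx => exact Commute.inv_left hx

theorem ker_cases {g : Cover F R} (hg : g ∈ (coverMap R).ker) : ∃ i < 4, g = zel hF R i := by
  obtain ⟨z, hz, hr⟩ := ker_code hF R hg
  obtain ⟨i, hi, rfl⟩ := List.getElem_of_mem hz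
  refine ⟨i, hi, Subtype.ext ((eqC_iff R hr (rep_zel hF R i hi)).1 ?_)⟩
  rw [List.getD_eq_getElem _ _ hi]
  simp [eqC, eq4, eqR, eq8]

theorem zel_injective {i j : ℕ} (hi : i < 4) (hj : j < 4) (h : zel hF R i = zel hF R j) : i = j := by
  have hc := List.all_eq_true.1 (List.all_eq_true.1 four_check i (List.mem_range.2 hi)) j
    (List.mem_range.2 hj)
  simp only [Bool.or_eq_true, Nat.beq_eq, Bool.not_eq_true'] at hc
  refine hc.resolve_right fun e => ?_
  rw [← Bool.not_eq_true, eqC_iff R (rep_zel hF R i hi) (rep_zel hF R j hj)] at e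
  exact e (congrArg Subtype.val h)

include hF in
theorem natCard_ker : Nat.card (coverMap R).ker = 4 := by
  let f : Fin 4 → (coverMap R).ker := fun i => ⟨zel hF R i, (zel_checks hF R i i.2).1⟩
  have hf : Function.Bijective f :=
    ⟨fun i j h => Fin.ext (zel_injective hF R i.2 j.2 (congrArg Subtype.val h)), fun g => by
      obtain ⟨i, hi, he⟩ := ker_cases hF R g.2
      exact ⟨⟨i, hi⟩, Subtype.ext he.symm⟩⟩
  rw [← Nat.card_eq_of_bijective f hf, Nat.card_fin]

include hF in
theorem natCard_cover : Nat.card (Cover F R) = 116480 := by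
  have h := (coverMap R).ker.card_mul_index
  rw [Subgroup.index_ker, MonoidHom.range_eq_top.2 (coverMap_surjective hF R),
    Nat.card_congr Subgroup.topEquiv.toEquiv, natCard_ker hF R, natCard_Sz (titsField8 hF), hF] at h
  exact h.symm

theorem zel_group : zel hF R 0 = 1 ∧ zel hF R 1 * zel hF R 1 = 1 ∧ zel hF R 2 * zel hF R 2 = 1 ∧
    zel hF R 1 * zel hF R 2 = zel hF R 3 := by
  have h := group_check
  simp only [Bool.and_eq_true] at h
  have r := rep_zel hF R
  exact ⟨eq_of_check R (r 0 (by norm_num)) (repA_one R) h.1.1.1,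
    eq_of_check R ((r 1 (by norm_num)).mul R (r 1 (by norm_num))) (repA_one R) h.1.1.2,
    eq_of_check R ((r 2 (by norm_num)).mul R (r 2 (by norm_num))) (repA_one R) h.1.2,
    eq_of_check R ((r 1 (by norm_num)).mul R (r 2 (by norm_num))) (r 3 (by norm_num)) h.2⟩

include hF in
theorem isStem_coverMap : Cfsg.IsStemExtension (coverMap R) := by
  refine ⟨coverMap_surjective hF R, fun g hg => ?_, fun g hg => ?_⟩
  · obtain ⟨i, hi, rfl⟩ := ker_cases hF R hg
    exact (zel_checks hF R i hi).2
  · have hcom : ∀ i < 2, zel hF R (i + 1) ∈ commutator (Cover F R) := by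
      intro i hi
      have hm : comms.getD i ([], [], []) ∈ comms := by
        rw [List.getD_eq_getElem _ _ (show i < comms.length from hi)]
        exact List.getElem_mem _
      have h := List.all_eq_true.1 comm_check _ hm
      have hw : (comms.getD i ([], [], [])).2.2 = zWords.getD (i + 1) [] := by
        rcases (show i = 0 ∨ i = 1 by omega) with rfl | rfl <;> rfl
      rw [hw] at h
      have e : P (sg hF R) (comms.getD i ([], [], [])).1 * P (sg hF R) (comms.getD i ([], [], [])).2.1 =
          P (sg hF R) (zWords.getD (i + 1) []) *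
            (P (sg hF R) (comms.getD i ([], [], [])).2.1 * P (sg hF R) (comms.getD i ([], [], [])).1) :=
        Subtype.ext ((eqC_iff R ((rep_word hF R _).mul R (rep_word hF R _))
          ((rep_word hF R _).mul R ((rep_word hF R _).mul R (rep_word hF R _)))).1 h)
      have e' : zel hF R (i + 1) = ⁅P (sg hF R) (comms.getD i ([], [], [])).1,
          P (sg hF R) (comms.getD i ([], [], [])).2.1⁆ := by
        rw [commutatorElement_def, e, zel]
        group
      rw [e']
      exact Subgroup.commutator_mem_commutator (Subgroup.mem_top _) (Subgroup.mem_top _)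
    obtain ⟨i, hi, rfl⟩ := ker_cases hF R hg
    obtain ⟨z0, -, -, z3⟩ := zel_group hF R
    interval_cases i
    · rw [z0]; exact one_mem _
    · exact hcom 0 (by norm_num)
    · exact hcom 1 (by norm_num)
    · rw [← z3]; exact mul_mem (hcom 0 (by norm_num)) (hcom 1 (by norm_num))

include hF in
theorem trivial_multiplier : Cfsg.HasCyclicSchurMultiplier (Cover F R) 1 := by
  refine hasTrivialMultiplier_of_primeCond fun p hp => ?_
  by_cases h2 : p = 2
  · subst h2
    exact Cert.primeCond (valid hF R) (m := 455)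
      ((natCard_cover hF R).trans (by norm_num [cert2])) (by norm_num)
  refine primeCond_of_cyclic default (isCyclic_sylow (p := p) ?_ default)
  rw [natCard_cover hF R, show (116480 : ℕ) = 2 ^ 8 * 455 by norm_num]
  intro hd
  have hd' : p ^ 2 ∣ 455 := (Nat.Coprime.pow 2 8
    ((Nat.coprime_primes hp.out Nat.prime_two).2 h2)).dvd_of_dvd_mul_left hd
  have hle : p ^ 2 ≤ 455 := Nat.le_of_dvd (by norm_num) hd'
  have : p < 22 := by nlinarith
  have h2' := hp.out.two_le
  interval_cases p
  all_goals
    first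
      | (norm_num at hd'; done)
      | (have := hp.out; norm_num at this; done)

include hF in
theorem hasSchurMultiplier :
    Cfsg.HasSchurMultiplier (Cfsg.Lie.Sz F 4) (Multiplicative (ZMod 2 × ZMod 2)) := by
  obtain ⟨R⟩ := exists_root hF
  obtain ⟨e⟩ := CfsgLib.Schur.mult_equiv_ker_of_trivial (coverMap R) (isStem_coverMap hF R)
    (trivial_multiplier hF R)
  obtain ⟨z0, z1, z2, z3⟩ := zel_group hF R
  have hc : ∀ i < 4, ∀ g, g * zel hF R i = zel hF R i * g := fun i hi =>
    Subgroup.mem_center_iff.1 (zel_checks hF R i hi).2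
  let m : ZMod 2 × ZMod 2 → ℕ := fun q => q.1.val + 2 * q.2.val
  have hm : ∀ q, m q < 4 := by decide
  have hmul : ∀ q r, zel hF R (m (q + r)) = zel hF R (m q) * zel hF R (m r) := by
    have c21 := hc 1 (by norm_num) (zel hF R 2)
    have hp : ∀ q, zel hF R (m q) = zel hF R 1 ^ q.1.val * zel hF R 2 ^ q.2.val := by
      intro q
      obtain ⟨a, b⟩ := q
      fin_cases a <;> fin_cases b <;> simp [m, z0, ← z3, ZMod.val]
    intro q r
    have hh : ∀ (x : Cover F R), x * x = 1 → ∀ a b : ZMod 2, x ^ (a + b).val = x ^ a.val * x ^ b.val := by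
      intro x hx a b
      rw [← pow_add, ZMod.val_add]
      exact (pow_eq_pow_mod _ (by rw [pow_two, hx])).symm
    rw [hp, hp, hp, Prod.fst_add, Prod.snd_add, hh _ z1, hh _ z2, mul_assoc, mul_assoc,
      ← mul_assoc (zel hF R 2 ^ q.2.val), ((show Commute _ _ from c21).pow_pow _ _).eq, mul_assoc]
  let f : Multiplicative (ZMod 2 × ZMod 2) →* (coverMap R).ker :=
    MonoidHom.mk' (fun q => ⟨zel hF R (m q.toAdd), (zel_checks hF R _ (hm _)).1⟩)
      fun q r => Subtype.ext (hmul q.toAdd r.toAdd)
  have hf : Function.Bijective f := by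
    refine (Nat.bijective_iff_injective_and_card f).2 ⟨fun q r h => ?_, ?_⟩
    · have := zel_injective hF R (hm _) (hm _) (congrArg Subtype.val h)
      have hinj : ∀ a b, m a = m b → a = b := by decide
      exact Multiplicative.toAdd.injective (hinj _ _ this)
    · rw [natCard_ker hF R]; simp
  exact CfsgLib.Schur.hasSchurMultiplier_iff.2 ⟨(MulEquiv.ofBijective f hf).trans e.symm⟩

end CfsgLib.KnownB.Sz8
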